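import Groth.Agent.EtQC.FP.Basic
import Groth.Agent.EtQC.Serre.Vanish

/-!
# Morphisms out of finitely presented modules commute with filtered colimits
-/

set_option autoImplicit false
set_option backward.isDefEq.respectTransparency false
set_option backward.isDefEq.respectTransparency.types false

universe u

set_option maxHeartbeats 800000

open CategoryTheory CategoryTheory.Limits AlgebraicGeometry Opposite AlgSp
open scoped TensorProduct

namespace Groth.Agent.EtQC.FPres

variable {S : Scheme.{u}} {X : Sp S}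

section Sections

variable {I : Type (u + 1)} [SmallCategory I] [IsFiltered I] {F : I ⥤ ModEt X} {c : Cocone F} (hc : IsColimit c)
  (W : EtOver X) [IsAffine W.obj.left.left]

include hc

/-- Sections over affine objects of a filtered colimit of modules come from a stage. -/
theorem exists_stage (x : sectModEt c.pt W) : ∃ (i : I) (y : sectModEt (F.obj i) W), app (c.ι.app i) W y = x := by
  haveI := Serre.preservesColimitsOfShape_toAbEt (X := X) I
  haveI := Glob.preservesColimitsOfShape_sections W (Glob.qcqs_of_isAffine W) I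
  exact Concrete.isColimit_exists_rep _ (isColimitOfPreserves (sheafToPresheaf (etTop X) AddCommGrpCat.{u + 1} ⋙
    (evaluation (EtOver X)ᵒᵖ AddCommGrpCat.{u + 1}).obj (op W)) (isColimitOfPreserves (toAbEt X) hc)) x

/-- Sections over affine objects vanishing in a filtered colimit of modules vanish at a stage. -/
theorem exists_kill_stage (i : I) (y : sectModEt (F.obj i) W) (hy : app (c.ι.app i) W y = 0) :
    ∃ (j : I) (a : i ⟶ j), app (F.map a) W y = 0 := by
  haveI := Serre.preservesColimitsOfShape_toAbEt (X := X) I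
  haveI := Glob.preservesColimitsOfShape_sections W (Glob.qcqs_of_isAffine W) I
  let h := isColimitOfPreserves (sheafToPresheaf (etTop X) AddCommGrpCat.{u + 1} ⋙
    (evaluation (EtOver X)ᵒᵖ AddCommGrpCat.{u + 1}).obj (op W)) (isColimitOfPreserves (toAbEt X) hc)
  obtain ⟨j, a, b, hab⟩ := Concrete.isColimit_exists_of_rep_eq _ h (i := i) (j := i) y (0 : sectModEt (F.obj i) W)
    (hy.trans (map_zero (app (c.ι.app i) W)).symm :)
  exact ⟨j, a, hab.trans (map_zero (app (F.map b) W))⟩

/-- Finitely many sections vanishing in the colimit vanish at one stage. -/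
theorem exists_kill_finset {κ : Type*} (s : Finset κ) (i : I) (W' : κ → EtOver X)
    (hW' : ∀ k, IsAffine (W' k).obj.left.left) (y : ∀ k, sectModEt (F.obj i) (W' k))
    (hy : ∀ k ∈ s, app (c.ι.app i) (W' k) (y k) = 0) :
    ∃ (j : I) (a : i ⟶ j), ∀ k ∈ s, app (F.map a) (W' k) (y k) = 0 := by
  classical
  induction s using Finset.induction with
  | empty => exact ⟨i, 𝟙 i, by simp⟩
  | insert k s hk ih =>
    obtain ⟨j, a, ha⟩ := ih fun k' hk' => hy k' (Finset.mem_insert_of_mem hk')
    haveI := hW' k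
    obtain ⟨l, b, hb⟩ := exists_kill_stage hc (W' k) j (app (F.map a) (W' k) (y k)) (by
      rw [← app_comp', c.w a]
      exact hy k (Finset.mem_insert_self k s))
    refine ⟨l, a ≫ b, fun k' hk' => ?_⟩
    rw [F.map_comp, app_comp']
    rcases Finset.mem_insert.1 hk' with rfl | hk'
    · exact hb
    · rw [ha k' hk', map_zero]

end Sections

/-- An affine piece of a fibre product through a compatible pair of points. -/
theorem exists_affine_over {T P B : EtOver X} (p : T ⟶ B) (a : P ⟶ B) (x : ↥T.obj.left.left) (y : ↥P.obj.left.left)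
    (h : p.hom.left.left x = a.hom.left.left y) : ∃ (T' : EtOver X) (q : T' ⟶ T) (q' : T' ⟶ P),
      IsAffine T'.obj.left.left ∧ x ∈ Set.range q.hom.left.left ∧ q ≫ p = q' ≫ a := by
  obtain ⟨w, hw, -⟩ := Scheme.Pullback.exists_preimage_pullback x y h
  let z := (isPullback_left p a).isoPullback.inv w
  obtain ⟨O, hO, hzO, -⟩ := exists_isAffineOpen_mem_and_subset (x := z)
    (U := (⊤ : (EtOver.pullbackObj p a).obj.left.left.Opens)) trivial
  refine ⟨AlgSpDec.etOpen _ O, AlgSpDec.etOpenι _ O ≫ EtOver.pullbackFst p a,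
    AlgSpDec.etOpenι _ O ≫ EtOver.pullbackSnd p a, hO, ⟨⟨z, hzO⟩, ?_⟩, ?_⟩
  · show (EtOver.pullbackFst p a).hom.left.left ((isPullback_left p a).isoPullback.inv w) = x
    rw [← Scheme.Hom.comp_apply, IsPullback.isoPullback_inv_fst]
    exact hw
  · rw [Category.assoc, Category.assoc, EtOver.pullback_condition]

variable {G N : ModEt X} (hG : BCAll G) {V : EtOver X} [IsAffine V.obj.left.left]

section Extend

variable
  (l : sectModEt G V →ₗ[Fn V] sectModEt N V)

include hG in
/-- The extension of a linear map on the atlas along a map to it. -/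
theorem exists_along (T : EtOver X) [IsAffine T.obj.left.left] (c : T ⟶ V) :
    ∃ lc : sectModEt G T →ₗ[Fn T] sectModEt N T, ∀ e, lc (res G c e) = res N c (l e) := by
  letI := (fmap c).toAlgebra
  haveI : G.IsQuasicoherent := BCAll.isQuasicoherent hG
  let β := bcEquiv G c
  let r : sectModEt G V →+ sectModEt N T := (res N c).comp l.toAddMonoidHom
  have hr : ∀ (a : Fn V) (e : sectModEt G V), r (a • e) = RingHom.id (Fn T) (algebraMap (Fn V) (Fn T) a) • r e :=
    fun a e => (congrArg (res N c) (map_smul l a e)).trans (res_smul N c a (l e))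
  let Λ := gam (RingHom.id (Fn T)) r hr
  have hsm : ∀ (b : Fn T) (z : Fn T ⊗[Fn V] sectModEt G V), Λ (b • z) = b • Λ z := fun b z => by
    induction z using TensorProduct.induction_on with
    | zero => rw [smul_zero, map_zero, smul_zero]
    | add x y hx hy => rw [smul_add, map_add, map_add, hx, hy, smul_add]
    | tmul d e => rw [TensorProduct.smul_tmul', gam_tmul, gam_tmul]; exact mul_smul b d _
  refine ⟨({ Λ with map_smul' := hsm } : Fn T ⊗[Fn V] sectModEt G V →ₗ[Fn T] sectModEt N T).comp β.symm.toLinearMap,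
    fun e => ?_⟩
  have hb : β (1 ⊗ₜ e) = res G c e := by
    show RingHom.id (Fn T) 1 • res G c e = res G c e
    rw [RingHom.id_apply, one_smul]
  show Λ (β.symm (res G c e)) = _
  rw [← hb, LinearEquiv.symm_apply_apply, gam_tmul, RingHom.id_apply, one_smul]
  rfl

variable (lc : ∀ (T : EtOver X) (_ : IsAffine T.obj.left.left) (_ : T ⟶ V), sectModEt G T →ₗ[Fn T] sectModEt N T)
  (hlc : ∀ T hT c e, lc T hT c (res G c e) = res N c (l e))

include hG hlc in
theorem along_res {T T' : EtOver X} (hT : IsAffine T.obj.left.left) (hT' : IsAffine T'.obj.left.left) (m : T' ⟶ T)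
    (c : T ⟶ V) (g : sectModEt G T) : lc T' hT' (m ≫ c) (res G m g) = res N m (lc T hT c g) := by
  haveI := hT
  have hg := mem_span_res hG c g
  induction hg using Submodule.span_induction with
  | mem g hg =>
    obtain ⟨e, rfl⟩ := hg
    rw [← res_comp, hlc, hlc, res_comp]
  | zero => simp only [map_zero]
  | add a b _ _ ha hb => simp only [map_add, ha, hb]
  | smul r a _ ha => rw [res_smul, map_smul, map_smul, res_smul, ha]

variable (hV : RepWith @Surjective V.obj.hom) {n : ℕ} (P : Fin n → EtOver X)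
  (a : ∀ k, P k ⟶ EtOver.prodObj V V) (hP : ∀ k, IsAffine (P k).obj.left.left)
  (hcov : ∀ x : ↥(EtOver.prodObj V V).obj.left.left, ∃ k, x ∈ Set.range (a k).hom.left.left)
  (E₀ : Finset (sectModEt G V)) (hE₀ : Submodule.span (Fn V) (E₀ : Set (sectModEt G V)) = ⊤)
  (heq : ∀ k, ∀ e ∈ E₀, lc (P k) (hP k) (a k ≫ EtOver.prodSnd V V) (res G (a k ≫ EtOver.prodFst V V) e) =
    res N (a k ≫ EtOver.prodFst V V) (l e))

include hG hlc hcov hE₀ heq in
theorem along_indep (T : EtOver X) (hT : IsAffine T.obj.left.left) (c c' : T ⟶ V) (g : sectModEt G T) :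
    lc T hT c g = lc T hT c' g := by
  haveI := hT
  obtain ⟨p, hp1, hp2⟩ := BinaryFan.IsLimit.lift' (EtOver.prodIsLimit V V) c c'
  change p ≫ EtOver.prodFst V V = c at hp1
  change p ≫ EtOver.prodSnd V V = c' at hp2
  choose O hO hxO using fun x : ↥T.obj.left.left =>
    exists_isAffineOpen_mem_and_subset (x := x) (U := (⊤ : T.obj.left.left.Opens)) trivial
  choose k y hy using fun x : ↥T.obj.left.left => hcov (p.hom.left.left x)
  choose T' q q' hT' hx hq using fun x : ↥T.obj.left.left =>
    exists_affine_over p (a (k x)) x (y x) (hy x).symm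
  refine ext_of_cover N T' q (fun x => ⟨x, hx x⟩) fun x => ?_
  haveI := hP (k x)
  haveI := hT' x
  have hall : ∀ e, lc (P (k x)) (hP _) (a (k x) ≫ EtOver.prodSnd V V) (res G (a (k x) ≫ EtOver.prodFst V V) e) =
      res N (a (k x) ≫ EtOver.prodFst V V) (l e) := fun e => by
    have he : e ∈ Submodule.span (Fn V) (E₀ : Set (sectModEt G V)) := hE₀ ▸ Submodule.mem_top
    induction he using Submodule.span_induction with
    | mem e he => exact heq (k x) e he
    | zero => simp only [map_zero]
    | add u v _ _ hu hv => simp only [map_add, hu, hv]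
    | smul r u _ hu => rw [res_smul, map_smul, hu, map_smul, res_smul]
  rw [← along_res hG l lc hlc hT (hT' x) (q x) c g, ← along_res hG l lc hlc hT (hT' x) (q x) c' g, ← hp1, ← hp2,
    ← Category.assoc, ← Category.assoc, hq, Category.assoc, Category.assoc]
  have hg := mem_span_res hG (q' x ≫ a (k x) ≫ EtOver.prodFst V V) (res G (q x) g)
  generalize res G (q x) g = g' at hg ⊢
  induction hg using Submodule.span_induction with
  | mem g' hg' =>
    obtain ⟨e, rfl⟩ := hg'
    rw [hlc, res_comp N (a (k x) ≫ EtOver.prodFst V V) (q' x), res_comp G (a (k x) ≫ EtOver.prodFst V V) (q' x), along_res hG l lc hlc (hP _) (hT' x) (q' x), hall]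
  | zero => simp only [map_zero]
  | add u v _ _ hu hv => simp only [map_add, hu, hv]
  | smul r u _ hu => rw [map_smul, map_smul, hu]

include hG hlc hcov hE₀ heq hV in
/-- A linear map on the atlas compatible on the pieces descends. -/
theorem exists_hom [QuasiSeparatedSpace ↥S] (hqs : IsQuasiSeparatedSp X) :
    ∃ ψ : G ⟶ N, ∀ (T : EtOver X) (hT : IsAffine T.obj.left.left) (c : T ⟶ V) g, app ψ T g = lc T hT c g := by
  have indep := along_indep hG l lc hlc P a hP hcov E₀ hE₀ heq
  let J : EtOver X → Type (u + 1) := fun E =>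
    Σ (T : {T : EtOver X // IsAffine T.obj.left.left}), (T.1 ⟶ E) × (T.1 ⟶ V)
  have cov : ∀ (E : EtOver X) (x : ↥E.obj.left.left), ∃ z : J E, x ∈ Set.range z.2.1.hom.left.left := fun E x => by
    obtain ⟨O, hO, hxO, -⟩ := exists_isAffineOpen_mem_and_subset (x := x) (U := (⊤ : E.obj.left.left.Opens)) trivial
    haveI : IsAffine (AlgSpDec.etOpen E O).obj.left.left := hO
    obtain ⟨n, Q, u, v, hQ, -, hc⟩ := exists_pieces V hqs (AlgSpDec.etOpen E O)
    obtain ⟨i, y, hy⟩ := hc hV ⟨x, hxO⟩
    exact ⟨⟨⟨Q i, hQ i⟩, u i ≫ AlgSpDec.etOpenι E O, v i⟩, y,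
      (congrArg (AlgSpDec.etOpenι E O).hom.left.left hy :)⟩
  have ex : ∀ (E : EtOver X) (g : sectModEt G E), ∃ r : sectModEt N E, ∀ z : J E,
      res N z.2.1 r = lc z.1.1 z.1.2 z.2.2 (res G z.2.1 g) := fun E g => by
    refine exists_glue N (fun z : J E => z.1.1) (fun z => z.2.1) (cov E)
      (fun z => lc z.1.1 z.1.2 z.2.2 (res G z.2.1 g)) fun z z' => ?_
    choose O hO hxO using fun t : ↥(EtOver.pullbackObj z.2.1 z'.2.1).obj.left.left =>
      exists_isAffineOpen_mem_and_subset (x := t)
        (U := (⊤ : (EtOver.pullbackObj z.2.1 z'.2.1).obj.left.left.Opens)) trivial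
    refine ext_of_cover N (fun t => AlgSpDec.etOpen _ (O t)) (fun t => AlgSpDec.etOpenι _ (O t))
      (fun t => ⟨t, by rw [AlgSpDec.range_etOpenι]; exact (hxO t).1⟩) fun t => ?_
    let U := AlgSpDec.etOpen (EtOver.pullbackObj z.2.1 z'.2.1) (O t)
    have hU : IsAffine U.obj.left.left := hO t
    let m : U ⟶ z.1.1 := AlgSpDec.etOpenι _ (O t) ≫ EtOver.pullbackFst z.2.1 z'.2.1
    let m' : U ⟶ z'.1.1 := AlgSpDec.etOpenι _ (O t) ≫ EtOver.pullbackSnd z.2.1 z'.2.1
    have e1 : res N m (lc z.1.1 z.1.2 z.2.2 (res G z.2.1 g)) = lc U hU (m ≫ z.2.2) (res G (m ≫ z.2.1) g) := by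
      rw [res_comp G z.2.1 m, along_res hG l lc hlc z.1.2 hU m]
    have e2 : res N m' (lc z'.1.1 z'.1.2 z'.2.2 (res G z'.2.1 g)) = lc U hU (m' ≫ z'.2.2) (res G (m' ≫ z'.2.1) g) := by
      rw [res_comp G z'.2.1 m', along_res hG l lc hlc z'.1.2 hU m']
    have e3 : m ≫ z.2.1 = m' ≫ z'.2.1 := by simp only [m, m', Category.assoc, EtOver.pullback_condition]
    rw [← res_comp, ← res_comp]
    exact e1.trans ((indep U hU (m ≫ z.2.2) (m' ≫ z'.2.2) _).trans (e3 ▸ e2.symm))
  choose r hr using ex
  have radd : ∀ E g g', r E (g + g') = r E g + r E g' := fun E g g' =>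
    ext_of_cover N (fun z : J E => z.1.1) (fun z => z.2.1) (cov E) fun z => by
      rw [map_add, hr, hr, hr, map_add, map_add]
  have rnat : ∀ {E E' : EtOver X} (m : E' ⟶ E) g, r E' (res G m g) = res N m (r E g) := fun {E E'} m g =>
    ext_of_cover N (fun z : J E' => z.1.1) (fun z => z.2.1) (cov E') fun z => by
      rw [hr, ← res_comp, ← res_comp]
      exact (hr E g ⟨z.1, z.2.1 ≫ m, z.2.2⟩).symm
  have rsmul : ∀ (E : EtOver X) (d : Fn E) g, r E (d • g) = d • r E g := fun E d g =>
    ext_of_cover N (fun z : J E => z.1.1) (fun z => z.2.1) (cov E) fun z => by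
      rw [res_smul, hr, hr, res_smul, map_smul]
  let ψ : G ⟶ N := ⟨PresheafOfModules.homMk
    { app := fun E => AddCommGrpCat.ofHom (AddMonoidHom.mk' (r E.unop) (radd E.unop))
      naturality := fun E E' m => AddCommGrpCat.hom_ext (AddMonoidHom.ext fun g => rnat m.unop g) }
    (fun E d g => by
      obtain ⟨d', rfl⟩ : ∃ d' : Fn E.unop, upΓ E.unop d' = d := ⟨d.down, rfl⟩
      exact rsmul E.unop d' g)⟩
  refine ⟨ψ, fun T hT c g => ?_⟩
  show r T g = _
  have := hr T g ⟨⟨T, hT⟩, 𝟙 T, c⟩
  rwa [res_id, res_id] at this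

end Extend

include hG in
/-- Morphisms agreeing on generators over the atlas agree. -/
theorem hom_ext_gens [QuasiSeparatedSpace ↥S] (hqs : IsQuasiSeparatedSp X) (hV : RepWith @Surjective V.obj.hom)
    (E₀ : Finset (sectModEt G V)) (hE₀ : Submodule.span (Fn V) (E₀ : Set (sectModEt G V)) = ⊤)
    {φ φ' : G ⟶ N} (h : ∀ e ∈ E₀, app φ V e = app φ' V e) : φ = φ' := by
  have hall : ∀ e, app φ V e = app φ' V e := fun e => by
    have he : e ∈ Submodule.span (Fn V) (E₀ : Set (sectModEt G V)) := hE₀ ▸ Submodule.mem_top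
    exact LinearMap.eqOn_span h he
  ext E g
  show app φ E.unop g = app φ' E.unop g
  choose O hO hxO using fun z : ↥E.unop.obj.left.left =>
    exists_isAffineOpen_mem_and_subset (x := z) (U := (⊤ : E.unop.obj.left.left.Opens)) trivial
  refine ext_of_cover N (fun z => AlgSpDec.etOpen E.unop (O z)) (fun z => AlgSpDec.etOpenι E.unop (O z))
    (fun z => ⟨z, by rw [AlgSpDec.range_etOpenι]; exact (hxO z).1⟩) fun z => ?_
  haveI : IsAffine (AlgSpDec.etOpen E.unop (O z)).obj.left.left := hO z
  obtain ⟨n, Q, u, v, hQ, -, hc⟩ := exists_pieces V hqs (AlgSpDec.etOpen E.unop (O z))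
  refine ext_of_cover N Q u (hc hV) fun i => ?_
  haveI := hQ i
  rw [← app_res, ← app_res, ← app_res, ← app_res]
  refine LinearMap.eqOn_span ?_ (mem_span_res hG (v i) _)
  rintro _ ⟨e, rfl⟩
  rw [app_res, app_res, hall]


end Groth.Agent.EtQC.FPres
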