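import Groth.Agent.EtQC.Serre.Gen
import Groth.Agent.EtQC.UnionFT
import Groth.Agent.EtQC.FinPres

/-!
# Sections of cokernels on affine objects and filtered colimits
-/

set_option autoImplicit false
set_option backward.isDefEq.respectTransparency false
set_option backward.isDefEq.respectTransparency.types false

universe u

set_option maxHeartbeats 800000

open CategoryTheory CategoryTheory.Limits AlgebraicGeometry Opposite AlgSp
open scoped TensorProduct

namespace Groth.Agent.EtQC.FPres

variable {S : Scheme.{u}} {X : Sp S}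

section Abelian

variable {C : Type*} [Category C] [Abelian C] {A B : C} (φ : A ⟶ B)

theorem coimage_w : Abelian.factorThruCoimage φ ≫ cokernel.π φ = 0 := by
  rw [← cancel_epi (Abelian.coimage.π φ), ← Category.assoc, Abelian.coimage.fac, cokernel.condition, comp_zero]

theorem exact_coimage : (ShortComplex.mk _ _ (coimage_w φ)).Exact := by
  refine ShortComplex.exact_of_g_is_cokernel _ (CokernelCofork.IsColimit.ofπ _ _
    (fun g hg => cokernel.desc φ g (by rw [← Abelian.coimage.fac φ, Category.assoc, hg, comp_zero]))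
    (fun g hg => cokernel.π_desc _ _ _) (fun g hg m hm => ?_))
  rw [← cancel_epi (cokernel.π φ), cokernel.π_desc]
  exact hm

end Abelian

section Range

variable {A B : ModEt X} (φ : A ⟶ B)

/-- A section is in the image on an affine object when it dies in the cokernel. -/
theorem mem_range_iff (hA : BCAll A) (hB : BCAll B) (P : EtOver X) [IsAffine P.obj.left.left]
    (y : sectModEt B P) : app (cokernel.π φ) P y = 0 ↔ y ∈ Set.range (app φ P) := by
  refine ⟨fun h => ?_, ?_⟩
  · let T₁ := ShortComplex.mk (kernel.ι φ) (Abelian.coimage.π φ) (cokernel.condition _)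
    have hT₁ : T₁.Exact := ShortComplex.exact_of_g_is_cokernel _ (cokernelIsCokernel _)
    haveI : Mono T₁.f := inferInstanceAs (Mono (kernel.ι φ))
    haveI : Epi T₁.g := inferInstanceAs (Epi (Abelian.coimage.π φ))
    let T := ShortComplex.mk (Abelian.factorThruCoimage φ) (cokernel.π φ) (coimage_w φ)
    have hT : T.Exact := exact_coimage φ
    haveI : Mono T.f := inferInstanceAs (Mono (Abelian.factorThruCoimage φ))
    obtain ⟨x, hx⟩ := (app_exact hT P y).1 h
    obtain ⟨a, rfl⟩ := app_surjective hT₁ (bcAll_kernel φ hA hB) x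
    refine ⟨a, ?_⟩
    rw [← hx]
    refine Eq.trans ?_ (app_comp' (Abelian.coimage.π φ) (Abelian.factorThruCoimage φ) P a)
    rw [Abelian.coimage.fac]
  · rintro ⟨a, rfl⟩
    refine (app_comp' φ (cokernel.π φ) P a).symm.trans ?_
    rw [cokernel.condition]
    rfl

theorem app_cokernel_surjective (hA : BCAll A) (hB : BCAll B) (P : EtOver X) [IsAffine P.obj.left.left] :
    Function.Surjective (app (cokernel.π φ) P) := by
  let T := ShortComplex.mk (kernel.ι (cokernel.π φ)) (cokernel.π φ) (kernel.condition _)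
  have hT : T.Exact := ShortComplex.exact_of_f_is_kernel _ (kernelIsKernel _)
  haveI : Mono T.f := inferInstanceAs (Mono (kernel.ι (cokernel.π φ)))
  haveI : Epi T.g := inferInstanceAs (Epi (cokernel.π φ))
  exact app_surjective hT (bcAll_kernel _ hB (bcAll_cokernel φ hA hB))

theorem exists_kernel (P : EtOver X) (a : sectModEt A P) (h : app φ P a = 0) :
    ∃ k : sectModEt (kernel φ) P, app (kernel.ι φ) P k = a :=
  Serre.exists_kernel_section φ a h

theorem app_kernel_ι (P : EtOver X) (k : sectModEt (kernel φ) P) : app φ P (app (kernel.ι φ) P k) = 0 := by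
  refine (app_comp' (kernel.ι φ) φ P k).symm.trans ?_
  rw [kernel.condition]
  rfl

end Range

/-- Sections pulled back from an object span on affine objects over it. -/
theorem mem_span_res {M : ModEt X} (hM : BCAll M) {E P : EtOver X} (c : P ⟶ E) [IsAffine E.obj.left.left]
    [IsAffine P.obj.left.left] (s : sectModEt M P) : s ∈ Submodule.span (Fn P) (Set.range (res M c)) := by
  letI := (fmap c).toAlgebra
  obtain ⟨z, rfl⟩ := (hM E ‹_› P c ‹_›).2 s
  induction z using TensorProduct.induction_on with
  | zero => rw [map_zero]; exact zero_mem _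
  | add x y hx hy => rw [map_add]; exact add_mem hx hy
  | tmul b m => rw [gam_tmul]; exact Submodule.smul_mem _ _ (Submodule.subset_span ⟨m, rfl⟩)

/-- Finitely many sections of a finite module suffice over smaller affine objects. -/
theorem mem_range_of_res {M N : ModEt X} (hM : BCAll M) (φ : N ⟶ M) {E P : EtOver X} (c : P ⟶ E)
    [IsAffine E.obj.left.left] [IsAffine P.obj.left.left] (T : Set (sectModEt M E))
    (hT : Submodule.span (Fn E) T = ⊤) (h : ∀ x ∈ T, res M c x ∈ Set.range (app φ P)) (s : sectModEt M P) :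
    s ∈ Set.range (app φ P) := by
  refine (?_ : s ∈ LinearMap.range (app φ P))
  refine Submodule.span_le.2 ?_ (mem_span_res hM c s)
  rintro _ ⟨x, rfl⟩
  show res M c x ∈ LinearMap.range (app φ P)
  have hx : x ∈ Submodule.span (Fn E) T := hT ▸ Submodule.mem_top
  induction hx using Submodule.span_induction with
  | mem x hx => exact h x hx
  | zero => rw [map_zero]; exact zero_mem _
  | add a b _ _ ha hb => rw [map_add]; exact add_mem ha hb
  | smul r a _ ha => rw [res_smul]; exact Submodule.smul_mem _ _ ha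

section Biprod

variable {A B : ModEt X}

theorem biprod_decomp (P : EtOver X) (x : sectModEt (A ⊞ B : ModEt X) P) :
    app (biprod.inl : A ⟶ A ⊞ B) P (app biprod.fst P x) + app (biprod.inr : B ⟶ A ⊞ B) P (app biprod.snd P x) = x := by
  have h : (biprod.fst ≫ biprod.inl + biprod.snd ≫ biprod.inr : A ⊞ B ⟶ A ⊞ B) = 𝟙 _ := biprod.total
  have h2 := congrArg (fun g : A ⊞ B ⟶ A ⊞ B => app g P x) h
  exact h2

theorem app_eq_of_eq {M N : ModEt X} {f g : M ⟶ N} (h : f = g) (P : EtOver X) (x : sectModEt M P) :
    app f P x = app g P x := by rw [h]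

theorem fst_inl (P : EtOver X) (a : sectModEt A P) :
    app (biprod.fst : A ⊞ B ⟶ A) P (app (biprod.inl : A ⟶ A ⊞ B) P a) = a :=
  (app_comp' _ _ P a).symm.trans ((app_eq_of_eq biprod.inl_fst P a).trans rfl)

theorem snd_inl (P : EtOver X) (a : sectModEt A P) :
    app (biprod.snd : A ⊞ B ⟶ B) P (app (biprod.inl : A ⟶ A ⊞ B) P a) = 0 :=
  (app_comp' _ _ P a).symm.trans ((app_eq_of_eq biprod.inl_snd P a).trans rfl)

theorem fst_inr (P : EtOver X) (b : sectModEt B P) :
    app (biprod.fst : A ⊞ B ⟶ A) P (app (biprod.inr : B ⟶ A ⊞ B) P b) = 0 :=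
  (app_comp' _ _ P b).symm.trans ((app_eq_of_eq biprod.inr_fst P b).trans rfl)

theorem snd_inr (P : EtOver X) (b : sectModEt B P) :
    app (biprod.snd : A ⊞ B ⟶ B) P (app (biprod.inr : B ⟶ A ⊞ B) P b) = b :=
  (app_comp' _ _ P b).symm.trans ((app_eq_of_eq biprod.inr_snd P b).trans rfl)

theorem desc_inl {C : ModEt X} (f : A ⟶ C) (g : B ⟶ C) (P : EtOver X) (a : sectModEt A P) :
    app (biprod.desc f g) P (app (biprod.inl : A ⟶ A ⊞ B) P a) = app f P a :=
  (app_comp' _ _ P a).symm.trans (app_eq_of_eq (biprod.inl_desc f g) P a)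

theorem desc_inr {C : ModEt X} (f : A ⟶ C) (g : B ⟶ C) (P : EtOver X) (b : sectModEt B P) :
    app (biprod.desc f g) P (app (biprod.inr : B ⟶ A ⊞ B) P b) = app g P b :=
  (app_comp' _ _ P b).symm.trans (app_eq_of_eq (biprod.inr_desc f g) P b)

theorem fp_biprod (P : EtOver X) [Module.FinitePresentation (Fn P) (sectModEt A P)]
    [Module.FinitePresentation (Fn P) (sectModEt B P)] :
    Module.FinitePresentation (Fn P) (sectModEt (A ⊞ B : ModEt X) P) := by
  let e : sectModEt (A ⊞ B : ModEt X) P ≃ₗ[Fn P] sectModEt A P × sectModEt B P :=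
    { (app (biprod.fst : A ⊞ B ⟶ A) P).prod (app (biprod.snd : A ⊞ B ⟶ B) P) with
      invFun := fun p => app (biprod.inl : A ⟶ A ⊞ B) P p.1 + app (biprod.inr : B ⟶ A ⊞ B) P p.2
      left_inv := fun x => biprod_decomp P x
      right_inv := fun p => Prod.ext
        (((map_add (app (biprod.fst : A ⊞ B ⟶ A) P) _ _).trans
          (congrArg₂ (· + ·) (fst_inl P p.1) (fst_inr P p.2))).trans (add_zero _))
        (((map_add (app (biprod.snd : A ⊞ B ⟶ B) P) _ _).trans
          (congrArg₂ (· + ·) (snd_inl P p.1) (snd_inr P p.2))).trans (zero_add _)) }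
  exact Module.FinitePresentation.of_equiv e.symm

end Biprod

section Colim

variable {J : Type*} [Category J] [IsFiltered J] {M : ModEt X} (D : J ⥤ ModEt X)
  (ι : D ⟶ (Functor.const J).obj M)
  (hex : ∀ (W : EtOver X), IsAffine W.obj.left.left → ∀ s : sectModEt M W, ∃ j t, app (ι.app j) W t = s)
  (hker : ∀ (W : EtOver X), IsAffine W.obj.left.left → ∀ (j : J) (t : sectModEt (D.obj j) W),
    app (ι.app j) W t = 0 → ∃ (k : J) (f : j ⟶ k), app (D.map f) W t = 0)

include hex hker in
/-- A filtered diagram whose sections on affine objects have the given colimit is a colimit diagram. -/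
theorem isColimit_of_affine : Nonempty (IsColimit (Cocone.mk M ι)) := by
  classical
  let c₀ : Cocone D := Cocone.mk M ι
  have hex' : ∀ (W : EtOver X), IsAffine W.obj.left.left → ∀ s : sectModEt M W,
      ∃ j t, app (cleg c₀ j) W t = s := hex
  have sep : ∀ (c : Cocone D) (E : EtOver X) (x y : sectModEt c.pt E),
      (∀ (W : EtOver X) (g : W ⟶ E), IsAffine W.obj.left.left → res c.pt g x = res c.pt g y) → x = y :=
    fun c E x y h => by
      choose O hO hxO using fun z : ↥E.obj.left.left =>
        exists_isAffineOpen_mem_and_subset (x := z) (U := (⊤ : E.obj.left.left.Opens)) trivial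
      exact ext_of_cover c.pt (fun z => AlgSpDec.etOpen E (O z)) (fun z => AlgSpDec.etOpenι E (O z))
        (fun z => ⟨z, by rw [AlgSpDec.range_etOpenι]; exact (hxO z).1⟩)
        fun z => h _ _ (hO z)
  have leg : ∀ (c : Cocone D) (W : EtOver X) (j j' : J) (t : sectModEt (D.obj j) W) (t' : sectModEt (D.obj j') W),
      app (cleg c₀ j) W t = app (cleg c₀ j') W t' → app (cleg c j) W t = app (cleg c j') W t' := by
    intro c W j j' t t' h
    refine sep c W _ _ fun W' g hW' => ?_
    let k := IsFiltered.max j j'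
    let f := IsFiltered.leftToMax j j'
    let f' := IsFiltered.rightToMax j j'
    let d := app (D.map f) W' (res _ g t) - app (D.map f') W' (res _ g t')
    have h0 : app (cleg c₀ k) W' d = 0 := by
      rw [map_sub, ← app_comp', ← app_comp', cleg_w c₀ f, cleg_w c₀ f', app_res, app_res, h, sub_self]
    obtain ⟨l, p, hp⟩ := hker W' hW' k d h0
    have e : app (cleg c k) W' d = 0 := by
      rw [← cleg_w c p, app_comp', hp, map_zero]
    rw [map_sub, ← app_comp', ← app_comp', cleg_w c f, cleg_w c f', app_res, app_res, sub_eq_zero] at e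
    exact e
  -- the map out of the module
  have desc : ∀ (c : Cocone D) (E : EtOver X) (s : sectModEt M E), ∃ r : sectModEt c.pt E,
      ∀ (W : EtOver X) (g : W ⟶ E) (j : J) (t : sectModEt (D.obj j) W),
        app (cleg c₀ j) W t = res M g s → res c.pt g r = app (cleg c j) W t := by
    intro c E s
    let R : Sieve E :=
      { arrows := fun W g => ∃ j t, app (cleg c₀ j) W t = res M g s
        downward_closed := fun {W W'} g hg l => by
          obtain ⟨j, t, ht⟩ := hg
          exact ⟨j, res (D.obj j) l t, by rw [app_res, ht, res_comp]⟩ }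
    have hR : R ∈ etTop X E := by
      choose O hO hxO using fun x : ↥E.obj.left.left =>
        exists_isAffineOpen_mem_and_subset (x := x) (U := (⊤ : E.obj.left.left.Opens)) trivial
      refine (etTop X).superset_covering ?_ (AlgSpDec.ofArrows_mem_etTop (fun x => AlgSpDec.etOpen E (O x))
        (fun x => AlgSpDec.etOpenι E (O x)) fun x => ⟨x, by rw [AlgSpDec.range_etOpenι]; exact (hxO x).1⟩)
      intro W g hg
      obtain ⟨x, l, rfl⟩ := (Sieve.mem_ofArrows_iff _ _ _).1 hg
      refine R.downward_closed ?_ l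
      exact hex' (AlgSpDec.etOpen E (O x)) (hO x) _
    choose j t ht using fun (W : EtOver X) (g : W ⟶ E) (hg : R g) => hg
    have hsh := (isSheaf_iff_isSheaf_of_type _ _).1
      ((Presheaf.isSheaf_iff_isSheaf_forget (etTop X) c.pt.val.presheaf (forget AddCommGrpCat.{u + 1})).1 c.pt.isSheaf)
    obtain ⟨r, hr, -⟩ := hsh R hR (fun W g hg => app (cleg c (j W g hg)) W (t W g hg)) (by
      intro Y₁ Y₂ Z g₁ g₂ f₁ f₂ h₁ h₂ hw
      show res c.pt g₁ (app (cleg c _) Y₁ _) = res c.pt g₂ (app (cleg c _) Y₂ _)
      rw [← app_res, ← app_res]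
      refine leg c Z _ _ _ _ ?_
      rw [app_res, app_res, ht, ht, ← res_comp, ← res_comp, hw])
    refine ⟨r, fun W g k u hu => ?_⟩
    have hg : R g := ⟨k, u, hu⟩
    rw [show res c.pt g r = _ from hr g hg]
    exact leg c W _ _ _ _ ((ht W g hg).trans hu.symm)
  choose r hr using desc
  have radd : ∀ c E s s', r c E (s + s') = r c E s + r c E s' := fun c E s s' => sep c E _ _ fun W g hW => by
    obtain ⟨j, t, ht⟩ := hex' W hW (res M g s)
    obtain ⟨j', t', ht'⟩ := hex' W hW (res M g s')
    let k := IsFiltered.max j j'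
    let f := IsFiltered.leftToMax j j'
    let f' := IsFiltered.rightToMax j j'
    have e : app (cleg c₀ k) W (app (D.map f) W t) = res M g s := by
      rw [← app_comp', cleg_w c₀ f, ht]
    have e' : app (cleg c₀ k) W (app (D.map f') W t') = res M g s' := by
      rw [← app_comp', cleg_w c₀ f', ht']
    rw [map_add, hr c E (s + s') W g k (app (D.map f) W t + app (D.map f') W t') (by rw [map_add, map_add, e, e']),
      hr c E s W g k _ e, hr c E s' W g k _ e', map_add]
  have rnat : ∀ c {E E' : EtOver X} (l : E' ⟶ E) s, r c E' (res M l s) = res c.pt l (r c E s) :=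
    fun c E E' l s => sep c E' _ _ fun W g hW => by
      obtain ⟨j, t, ht⟩ := hex' W hW (res M g (res M l s))
      rw [hr c E' _ W g j t ht, ← res_comp, hr c E s W (g ≫ l) j t (by rw [res_comp, ht])]
  have rsmul : ∀ c (E : EtOver X) (d : Fn E) s, r c E (d • s) = d • r c E s :=
    fun c E d s => sep c E _ _ fun W g hW => by
      obtain ⟨j, t, ht⟩ := hex' W hW (res M g s)
      rw [hr c E _ W g j (fmap g d • t) (by rw [map_smul, ht, res_smul]), res_smul, hr c E s W g j t ht, map_smul]
  let φ : ∀ c : Cocone D, M ⟶ c.pt := fun c => ⟨PresheafOfModules.homMk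
    { app := fun E => AddCommGrpCat.ofHom (AddMonoidHom.mk' (r c E.unop) (radd c E.unop))
      naturality := fun E E' l => AddCommGrpCat.hom_ext (AddMonoidHom.ext fun s => rnat c l.unop s) }
    (fun E d s => by
      obtain ⟨d', rfl⟩ : ∃ d' : Fn E.unop, upΓ E.unop d' = d := ⟨d.down, rfl⟩
      exact rsmul c E.unop d' s)⟩
  have hφ : ∀ c E s, app (φ c) E s = r c E s := fun c E s => rfl
  refine ⟨{ desc := φ, fac := fun c j => ?_, uniq := fun c ψ hψ => ?_ }⟩
  · ext E t
    show app (φ c) E.unop (app (cleg c₀ j) E.unop t) = app (cleg c j) E.unop t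
    have h := hr c E.unop (app (cleg c₀ j) E.unop t) E.unop (𝟙 _) j t (res_id M _).symm
    rw [res_id] at h
    rw [hφ, h]
  · ext E s
    show app ψ E.unop s = app (φ c) E.unop s
    refine sep c E.unop _ _ fun W g hW => ?_
    obtain ⟨j, t, ht⟩ := hex' W hW (res M g s)
    rw [hφ, hr c E.unop s W g j t ht, ← app_res, ← ht, ← app_comp']
    exact congrArg (fun θ : D.obj j ⟶ c.pt => app θ W t) (hψ j)

end Colim

end Groth.Agent.EtQC.FPres
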