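import Groth.Agent.EtQC.FP.Main
import Mathlib.CategoryTheory.Comma.Over.Basic

/-!
# A small filtered system of finitely presented modules with a given colimit
-/

set_option autoImplicit false
set_option backward.isDefEq.respectTransparency false
set_option backward.isDefEq.respectTransparency.types false

universe u

set_option maxHeartbeats 800000

open CategoryTheory CategoryTheory.Limits AlgebraicGeometry Opposite AlgSp

namespace Groth.Agent.EtQC.FPres

variable {S : Scheme.{u}} {X : Sp S}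

/-- Quasi-coherent modules of finite presentation. -/
structure IsFP (P : ModEt X) : Prop where
  bc : BCAll P
  fp : P.IsFinitePresentation

theorem IsFP.sect {P : ModEt X} (h : IsFP P) (E : EtOver X) [IsAffine E.obj.left.left] :
    Module.FinitePresentation (Fn E) (sectModEt P E) :=
  haveI := h.fp
  finitePresentation_sections P E

theorem IsFP.of_sect {P : ModEt X} (h : BCAll P)
    (h' : ∀ E : EtOver X, IsAffine E.obj.left.left → Module.FinitePresentation (Fn E) (sectModEt P E)) : IsFP P :=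
  ⟨h, isFinitePresentation_of_bc fun E hE =>
    cover_self (fun V => IsAffine V.obj.left.left ∧ BC P V ∧ Module.FinitePresentation (Fn V) (sectModEt P V))
      ⟨hE, h E hE, h' E hE⟩⟩

theorem IsFP.biprod {A B : ModEt X} (hA : IsFP A) (hB : IsFP B) : IsFP (A ⊞ B) :=
  IsFP.of_sect (Serre.bcAll_biprod hA.bc hB.bc) fun E hE => by
    haveI := hE; haveI := hA.sect E; haveI := hB.sect E
    exact fp_biprod E

theorem finitePresentation_cokernel {A B : ModEt X} (α : A ⟶ B) (hA : BCAll A) (hB : BCAll B) (E : EtOver X)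
    [IsAffine E.obj.left.left] [Module.Finite (Fn E) (sectModEt A E)]
    [Module.FinitePresentation (Fn E) (sectModEt B E)] :
    Module.FinitePresentation (Fn E) (sectModEt (cokernel α) E) := by
  refine Module.finitePresentation_of_surjective (app (cokernel.π α) E) (app_cokernel_surjective α hA hB E) ?_
  rw [show LinearMap.ker (app (cokernel.π α) E) = LinearMap.range (app α E) from
    Submodule.ext fun y => mem_range_iff α hA hB E y]
  exact Module.Finite.iff_fg.1 (Module.Finite.range _)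

theorem IsFP.cokernel {A B : ModEt X} (hA : IsFP A) (hB : IsFP B) (α : A ⟶ B) : IsFP (cokernel α) :=
  IsFP.of_sect (bcAll_cokernel α hA.bc hB.bc) fun E hE => by
    haveI := hE; haveI := hA.sect E; haveI := hB.sect E
    exact finitePresentation_cokernel α hA.bc hB.bc E

variable [QuasiSeparatedSpace ↥S] (hA : IsAlgSpace X) (hqc : IsQuasiCompactSp X) (hqs : IsQuasiSeparatedSp X)
  {M : ModEt X} (hM : BCAll M)

include hA hqc hqs hM in
theorem exists_over_hit (W : EtOver X) (hW : IsAffine W.obj.left.left) (s : sectModEt M W) :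
    ∃ O : Over M, IsFP O.left ∧ s ∈ Set.range (app O.hom W) := by
  haveI := hW
  obtain ⟨N, φ, hN, hNfp, h⟩ := exists_fp_hit hA hqc hqs hM W (fun _ : Fin 1 => s)
  exact ⟨Over.mk φ, ⟨hN, hNfp⟩, h 0⟩

include hA hqc hqs hM in
theorem exists_over : ∃ O : Over M, IsFP O.left := by
  obtain ⟨C⟩ := exists_chain hA hqc hqs
  obtain ⟨N, φ, hN, hFP, -⟩ := hit hA hqs C C.n le_rfl M hM fun _ => []
  exact ⟨Over.mk φ, hN, isFinitePresentation_of_fpk C hN hFP⟩

include hA hqc hqs hM in
theorem exists_over_kill (O : Over M) (hO : IsFP O.left) (W : EtOver X) (hW : IsAffine W.obj.left.left)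
    (t : sectModEt O.left W) (ht : app O.hom W t = 0) :
    ∃ (O' : Over M) (f : O ⟶ O'), IsFP O'.left ∧ app f.left W t = 0 := by
  haveI := hW
  obtain ⟨k, rfl⟩ := exists_kernel O.hom W t ht
  obtain ⟨R, χ, hR, hRfp, h⟩ := exists_fp_hit hA hqc hqs (bcAll_kernel O.hom hO.bc hM) W (fun _ : Fin 1 => k)
  let α : R ⟶ O.left := χ ≫ kernel.ι O.hom
  have hα : α ≫ O.hom = 0 := by rw [Category.assoc, kernel.condition, comp_zero]
  refine ⟨Over.mk (cokernel.desc α O.hom hα), Over.homMk (cokernel.π α) (cokernel.π_desc _ _ _),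
    IsFP.cokernel ⟨hR, hRfp⟩ hO α, ?_⟩
  obtain ⟨b, hb⟩ := h 0
  exact (mem_range_iff α hR hO.bc W _).2 ⟨b, (app_comp' χ _ W b).trans (congrArg _ hb)⟩

/-- Finitely presented modules over the given one. -/
abbrev FPOver (M : ModEt X) : Type (u + 2) := {O : Over M // IsFP O.left}

theorem coeq_w {A B : Over M} (f g : A ⟶ B) : (f.left - g.left) ≫ B.hom = 0 := by
  rw [Preadditive.sub_comp, Over.w, Over.w, sub_self]

/-- A family of finitely presented modules over the given one. -/
structure Fam (M : ModEt X) : Type (u + 2) where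
  T : Type (u + 1)
  obj : T → FPOver M

/-- Sums, coequalizers and kernels killed, one step. -/
noncomputable def Fam.next (L : Fam M) : Fam M where
  T := L.T ⊕ (L.T × L.T) ⊕ (Σ (a : L.T) (b : L.T), ((L.obj a).1 ⟶ (L.obj b).1) × ((L.obj a).1 ⟶ (L.obj b).1)) ⊕
    (Σ (a : L.T) (W : {W : EtOver X // IsAffine W.obj.left.left}),
      {t : sectModEt (L.obj a).1.left W.1 // app (L.obj a).1.hom W.1 t = 0})
  obj
    | .inl a => L.obj a
    | .inr (.inl (a, b)) => ⟨Over.mk (biprod.desc (L.obj a).1.hom (L.obj b).1.hom), (L.obj a).2.biprod (L.obj b).2⟩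
    | .inr (.inr (.inl ⟨a, b, f, g⟩)) => ⟨Over.mk (cokernel.desc (f.left - g.left) (L.obj b).1.hom (coeq_w f g)),
        IsFP.cokernel (L.obj a).2 (L.obj b).2 _⟩
    | .inr (.inr (.inr ⟨a, W, t⟩)) =>
      ⟨(exists_over_kill hA hqc hqs hM (L.obj a).1 (L.obj a).2 W.1 W.2 t.1 t.2).choose,
        (exists_over_kill hA hqc hqs hM (L.obj a).1 (L.obj a).2 W.1 W.2 t.1 t.2).choose_spec.choose_spec.1⟩

/-- The first family. -/
noncomputable def fam₀ : Fam M where
  T := PUnit.{u + 2} ⊕ (Σ W : {W : EtOver X // IsAffine W.obj.left.left}, sectModEt M W.1)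
  obj
    | .inl _ => ⟨(exists_over hA hqc hqs hM).choose, (exists_over hA hqc hqs hM).choose_spec⟩
    | .inr ⟨W, s⟩ => ⟨(exists_over_hit hA hqc hqs hM W.1 W.2 s).choose,
        (exists_over_hit hA hqc hqs hM W.1 W.2 s).choose_spec.1⟩

/-- All families. -/
noncomputable def fam : ℕ → Fam M
  | 0 => fam₀ hA hqc hqs hM
  | n + 1 => (fam n).next hA hqc hqs hM

/-- The index category. -/
abbrev Idx : Type (u + 1) := Σ n, (fam hA hqc hqs hM n).T

/-- The object of an index. -/
noncomputable def objOf (a : Idx hA hqc hqs hM) : Over M := ((fam hA hqc hqs hM a.1).obj a.2).1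

theorem exists_up (n : ℕ) (a : (fam hA hqc hqs hM n).T) (m : ℕ) (h : n ≤ m) :
    ∃ b : (fam hA hqc hqs hM m).T, objOf hA hqc hqs hM ⟨m, b⟩ = objOf hA hqc hqs hM ⟨n, a⟩ := by
  induction h with
  | refl => exact ⟨a, rfl⟩
  | step _ ih =>
    obtain ⟨b, hb⟩ := ih
    exact ⟨Sum.inl b, hb⟩

/-- The diagram category. -/
abbrev JCat := InducedCategory (Over M) (objOf hA hqc hqs hM)

instance : IsFiltered (JCat hA hqc hqs hM) := by
  haveI : Nonempty (JCat hA hqc hqs hM) := ⟨(⟨0, Sum.inl PUnit.unit⟩ : Idx hA hqc hqs hM)⟩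
  refine { cocone_objs := ?_, cocone_maps := ?_ }
  · rintro ⟨n, a⟩ ⟨m, b⟩
    obtain ⟨a', ha⟩ := exists_up hA hqc hqs hM n a (max n m) (le_max_left _ _)
    obtain ⟨b', hb⟩ := exists_up hA hqc hqs hM m b (max n m) (le_max_right _ _)
    let c : JCat hA hqc hqs hM := (⟨max n m + 1, Sum.inr (Sum.inl (a', b'))⟩ : Idx hA hqc hqs hM)
    let ia : objOf hA hqc hqs hM ⟨max n m, a'⟩ ⟶ objOf hA hqc hqs hM c := Over.homMk biprod.inl (biprod.inl_desc _ _)
    let ib : objOf hA hqc hqs hM ⟨max n m, b'⟩ ⟶ objOf hA hqc hqs hM c := Over.homMk biprod.inr (biprod.inr_desc _ _)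
    exact ⟨c, InducedCategory.homMk (eqToHom ha.symm ≫ ia), InducedCategory.homMk (eqToHom hb.symm ≫ ib), trivial⟩
  · rintro ⟨n, a⟩ ⟨m, b⟩ f g
    obtain ⟨a', ha⟩ := exists_up hA hqc hqs hM n a (max n m) (le_max_left _ _)
    obtain ⟨b', hb⟩ := exists_up hA hqc hqs hM m b (max n m) (le_max_right _ _)
    let f' := eqToHom ha ≫ f.hom ≫ eqToHom hb.symm
    let g' := eqToHom ha ≫ g.hom ≫ eqToHom hb.symm
    let c : JCat hA hqc hqs hM := (⟨max n m + 1, Sum.inr (Sum.inr (Sum.inl ⟨a', b', f', g'⟩))⟩ : Idx hA hqc hqs hM)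
    let π' : objOf hA hqc hqs hM ⟨max n m, b'⟩ ⟶ objOf hA hqc hqs hM c :=
      Over.homMk (cokernel.π (f'.left - g'.left)) (cokernel.π_desc _ _ _)
    refine ⟨c, InducedCategory.homMk (eqToHom hb.symm ≫ π'), InducedCategory.hom_ext ?_⟩
    show f.hom ≫ eqToHom hb.symm ≫ π' = g.hom ≫ eqToHom hb.symm ≫ π'
    rw [← cancel_epi (eqToHom ha)]
    have : f' ≫ π' = g' ≫ π' := Over.OverMorphism.ext (by
      show f'.left ≫ cokernel.π _ = g'.left ≫ cokernel.π _
      rw [← sub_eq_zero, ← Preadditive.sub_comp, cokernel.condition])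
    simpa [f', g'] using this

include hA hqc hqs hM in
/-- A quasi-coherent module on a quasi-compact quasi-separated space is a colimit of finitely presented ones. -/
theorem exists_isColimit_fp : ∃ (J : Type (u + 1)) (_ : SmallCategory J) (_ : IsFiltered J) (D : J ⥤ ModEt X)
    (ι : D ⟶ (Functor.const J).obj M),
    (∀ j, (D.obj j).IsFinitePresentation) ∧ Nonempty (IsColimit (Cocone.mk M ι)) := by
  let F : JCat hA hqc hqs hM ⥤ Over M := inducedFunctor (objOf hA hqc hqs hM)
  let ι : F ⋙ Over.forget M ⟶ (Functor.const (JCat hA hqc hqs hM)).obj M :=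
    { app := fun j => (F.obj j).hom
      naturality := fun j k f => (Over.w (F.map f)).trans (Category.comp_id _).symm }
  refine ⟨JCat hA hqc hqs hM, inferInstance, inferInstance, F ⋙ Over.forget M, ι,
    fun j => ((fam hA hqc hqs hM j.1).obj j.2).2.fp, isColimit_of_affine _ ι (fun W hW s => ?_) fun W hW j t ht => ?_⟩
  · refine ⟨(⟨0, Sum.inr ⟨⟨W, hW⟩, s⟩⟩ : Idx hA hqc hqs hM), ?_⟩
    exact (exists_over_hit hA hqc hqs hM W hW s).choose_spec.2
  · obtain ⟨n, a⟩ := j
    let k : JCat hA hqc hqs hM :=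
      (⟨n + 1, Sum.inr (Sum.inr (Sum.inr ⟨a, ⟨W, hW⟩, ⟨t, ht⟩⟩))⟩ : Idx hA hqc hqs hM)
    exact ⟨k, InducedCategory.homMk (exists_over_kill hA hqc hqs hM ((fam hA hqc hqs hM n).obj a).1 ((fam hA hqc hqs hM n).obj a).2 W hW t ht).choose_spec.choose,
      (exists_over_kill hA hqc hqs hM ((fam hA hqc hqs hM n).obj a).1 ((fam hA hqc hqs hM n).obj a).2 W hW t ht).choose_spec.choose_spec.2⟩

end Groth.Agent.EtQC.FPres
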