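import Groth.Agent.EtQC.FP.Basic

/-!
# Finitely presented models on an affine space, with prescribed restriction to finitely many pieces
-/

set_option autoImplicit false
set_option backward.isDefEq.respectTransparency false
set_option backward.isDefEq.respectTransparency.types false

universe u

set_option maxHeartbeats 800000

open CategoryTheory CategoryTheory.Limits AlgebraicGeometry Opposite AlgSp
open scoped TensorProduct

namespace Groth.Agent.EtQC.FPres

variable {S : Scheme.{u}} {Y : Sp S}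

/-- A module with no sections on some pieces has none on affine objects covered by smaller ones. -/
theorem eq_zero_of_pieces {Z : ModEt Y} (hZ : BCAll Z) {ι : Type*} (E : ι → EtOver Y)
    (hE : ∀ i, IsAffine (E i).obj.left.left) (h0 : ∀ i (z : sectModEt Z (E i)), z = 0) (P : EtOver Y)
    (hcov : ∀ x : ↥P.obj.left.left, ∃ (P' : EtOver Y) (i : ι) (l : P' ⟶ P) (_ : P' ⟶ E i),
      IsAffine P'.obj.left.left ∧ x ∈ Set.range l.hom.left.left) (z : sectModEt Z P) : z = 0 := by
  choose P' i l c hP' hx using hcov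
  refine ext_of_cover Z P' l (fun x => ⟨x, hx x⟩) fun x => ?_
  haveI := hE (i x)
  haveI := hP' x
  rw [map_zero]
  have h := mem_span_res hZ (c x) (res Z (l x) z)
  rw [show Set.range (res Z (c x)) = {0} from Set.eq_singleton_iff_unique_mem.2
    ⟨⟨0, map_zero _⟩, by rintro _ ⟨w, rfl⟩; rw [h0 (i x) w, map_zero]⟩, Submodule.span_zero_singleton] at h
  exact (Submodule.mem_bot _).1 h

/-- Finitely many sections over the final object generate on finitely many pieces. -/
theorem exists_generating {C : ModEt Y} (hC : BCAll C) {V₁ : EtOver Y} [IsAffine V₁.obj.left.left]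
    (toV₁ : ∀ E : EtOver Y, E ⟶ V₁) {n : ℕ} (E : Fin n → EtOver Y) (hE : ∀ i, IsAffine (E i).obj.left.left)
    (hfin : ∀ i, Module.Finite (Fn (E i)) (sectModEt C (E i))) :
    ∃ T : Finset (sectModEt C V₁), ∀ i, Submodule.span (Fn (E i)) (res C (toV₁ (E i)) '' (T : Set _)) = ⊤ := by
  classical
  have key : ∀ i, ∃ T : Finset (sectModEt C V₁),
      Submodule.span (Fn (E i)) (res C (toV₁ (E i)) '' (T : Set _)) = ⊤ := fun i => by
    haveI := hE i
    obtain ⟨G, hG⟩ := (hfin i).fg_top
    have hk : ∀ g ∈ G, ∃ T : Finset (sectModEt C V₁),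
        g ∈ Submodule.span (Fn (E i)) (res C (toV₁ (E i)) '' (T : Set _)) := fun g _ => by
      obtain ⟨T', hT', hg⟩ := Submodule.mem_span_finite_of_mem_span (mem_span_res hC (toV₁ (E i)) g)
      choose w hw using fun t : {t // t ∈ T'} => hT' t.2
      refine ⟨Finset.univ.image w, Submodule.span_mono ?_ hg⟩
      intro t ht
      exact ⟨w ⟨t, ht⟩, by simp, hw ⟨t, ht⟩⟩
    choose T hT using hk
    refine ⟨G.attach.biUnion fun g => T g.1 g.2, top_le_iff.1 (hG.symm.le.trans (Submodule.span_le.2 fun g hg => ?_))⟩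
    refine Submodule.span_mono (Set.image_mono ?_) (hT g hg)
    intro t ht
    simp only [Finset.coe_biUnion, Set.mem_iUnion]
    exact ⟨⟨g, hg⟩, by simp, ht⟩
  choose T hT using key
  refine ⟨Finset.univ.biUnion T, fun i => top_le_iff.1 ((hT i).symm.le.trans (Submodule.span_mono (Set.image_mono ?_)))⟩
  intro t ht
  simp only [Finset.coe_biUnion, Set.mem_iUnion]
  exact ⟨i, by simp, ht⟩

/-- A module with finitely presented sections over the final object hitting given sections. -/
theorem exists_cover_module (C : ModEt Y) {V₁ : EtOver Y} [IsAffine V₁.obj.left.left]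
    (toV₁ : ∀ E : EtOver Y, E ⟶ V₁) (huniq : ∀ {E : EtOver Y} (a b : E ⟶ V₁), a = b)
    (l : List (sectModEt C V₁)) :
    ∃ (F : ModEt Y) (φ : F ⟶ C), BCAll F ∧ Module.FinitePresentation (Fn V₁) (sectModEt F V₁) ∧
      ∀ x ∈ l, x ∈ Set.range (app φ V₁) := by
  have hu : Module.FinitePresentation (Fn V₁) (sectModEt (Serre.oX Y) V₁) := by
    let e : Fn V₁ →ₗ[Fn V₁] sectModEt (Serre.oX Y) V₁ :=
      { toFun := Serre.osec V₁
        map_add' := Serre.osec_add V₁
        map_smul' := fun a b => (Serre.osec_smul V₁ a b).symm }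
    exact Module.FinitePresentation.of_equiv
      (LinearEquiv.ofBijective e ⟨Serre.osec_injective V₁, Serre.osec_surjective V₁⟩)
  induction l with
  | nil => exact ⟨Serre.oX Y, 0, Serre.bcAll_unit, hu, by simp⟩
  | cons x l ih =>
    obtain ⟨F, φ, hF, hFP, hmem⟩ := ih
    let σ : ∀ E : EtOver Y, sectModEt C E := fun E => res C (toV₁ E) x
    have hσ : ∀ (E E' : EtOver Y) (a : E' ⟶ E), σ E' = res C a (σ E) := fun E E' a => by
      show res C _ x = res C a (res C _ x)
      rw [← res_comp, huniq (toV₁ E') (a ≫ toV₁ E)]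
    refine ⟨F ⊞ Serre.oX Y, biprod.desc φ (Serre.unitHom σ hσ), Serre.bcAll_biprod hF Serre.bcAll_unit,
      fp_biprod V₁, ?_⟩
    intro y hy
    rcases List.mem_cons.1 hy with rfl | hy
    · refine ⟨app biprod.inr V₁ (Serre.osec V₁ 1), (desc_inr _ _ V₁ _).trans ?_⟩
      rw [Serre.app_unitHom, one_smul]
      show res C (toV₁ V₁) y = y
      rw [huniq (toV₁ V₁) (𝟙 _), res_id]
    · obtain ⟨a, ha⟩ := hmem y hy
      exact ⟨app biprod.inl V₁ a, (desc_inl _ _ V₁ a).trans ha⟩

theorem fp_of_res {F : ModEt Y} (hF : BCAll F) {E P : EtOver Y} (c : P ⟶ E) [IsAffine E.obj.left.left]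
    [IsAffine P.obj.left.left] [Module.FinitePresentation (Fn E) (sectModEt F E)] :
    Module.FinitePresentation (Fn P) (sectModEt F P) := by
  haveI := hF.isQuasicoherent
  letI := (fmap c).toAlgebra
  exact Module.FinitePresentation.of_equiv (bcEquiv F c)

/-- A module with finitely presented sections over the final object agreeing with a given one on pieces. -/
theorem exists_model {D : ModEt Y} (hD : BCAll D) {V₁ : EtOver Y} [IsAffine V₁.obj.left.left]
    (toV₁ : ∀ E : EtOver Y, E ⟶ V₁) (huniq : ∀ {E : EtOver Y} (a b : E ⟶ V₁), a = b)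
    {n : ℕ} (E : Fin n → EtOver Y) (hE : ∀ i, IsAffine (E i).obj.left.left)
    (hfp : ∀ i, Module.FinitePresentation (Fn (E i)) (sectModEt D (E i))) (p : List (sectModEt D V₁)) :
    ∃ (Q : ModEt Y) (π : Q ⟶ D), BCAll Q ∧ Module.FinitePresentation (Fn V₁) (sectModEt Q V₁) ∧
      (∀ x ∈ p, x ∈ Set.range (app π V₁)) ∧ ∀ i, Function.Bijective (app π (E i)) := by
  classical
  obtain ⟨T, hT⟩ := exists_generating hD toV₁ E hE fun i => haveI := hfp i; inferInstance
  obtain ⟨F, φ, hF, hFP, hmem⟩ := exists_cover_module D toV₁ huniq (p ++ T.toList)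
  have surj : ∀ i, Function.Surjective (app φ (E i)) := fun i s => by
    have hs : s ∈ Submodule.span (Fn (E i)) (res D (toV₁ (E i)) '' (T : Set _)) := hT i ▸ Submodule.mem_top
    refine (Submodule.span_le (p := LinearMap.range (app φ (E i)))).2 ?_ hs
    rintro _ ⟨t, ht, rfl⟩
    obtain ⟨a, ha⟩ := hmem t (List.mem_append_right _ (Finset.mem_toList.2 ht))
    exact ⟨res F (toV₁ (E i)) a, by rw [app_res, ha]⟩
  let K := kernel φ
  have hK : BCAll K := bcAll_kernel φ hF hD
  have hKfin : ∀ i, Module.Finite (Fn (E i)) (sectModEt K (E i)) := fun i => by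
    haveI := hE i
    haveI : Module.FinitePresentation (Fn (E i)) (sectModEt F (E i)) := fp_of_res hF (toV₁ (E i))
    haveI := hfp i
    haveI : Module.Finite (Fn (E i)) (LinearMap.ker (app φ (E i))) :=
      Module.Finite.of_fg (Module.FinitePresentation.fg_ker _ (surj i))
    let e : sectModEt K (E i) →ₗ[Fn (E i)] LinearMap.ker (app φ (E i)) :=
      (app (kernel.ι φ) (E i)).codRestrict _ fun k => app_kernel_ι φ (E i) k
    refine Module.Finite.equiv (LinearEquiv.ofBijective e ⟨fun a b hab => app_injective (kernel.ι φ) (E i)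
      (congrArg Subtype.val hab), fun y => ?_⟩).symm
    obtain ⟨k, hk⟩ := exists_kernel φ (E i) y.1 y.2
    exact ⟨k, Subtype.ext hk⟩
  obtain ⟨R, hR⟩ := exists_generating hK toV₁ E hE hKfin
  obtain ⟨F₂, ψ, hF₂, hFP₂, hmem₂⟩ := exists_cover_module K toV₁ huniq R.toList
  let α : F₂ ⟶ F := ψ ≫ kernel.ι φ
  have hα : α ≫ φ = 0 := by rw [Category.assoc, kernel.condition, comp_zero]
  refine ⟨cokernel α, cokernel.desc α φ hα, bcAll_cokernel α hF₂ hF, ?_, fun x hx => ?_, fun i => ?_⟩
  · refine Module.finitePresentation_of_surjective (app (cokernel.π α) V₁) (app_cokernel_surjective α hF₂ hF V₁) ?_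
    rw [show LinearMap.ker (app (cokernel.π α) V₁) = LinearMap.range (app α V₁) from
      Submodule.ext fun y => mem_range_iff α hF₂ hF V₁ y]
    exact Module.Finite.iff_fg.1 (Module.Finite.range _)
  · obtain ⟨a, ha⟩ := hmem x (List.mem_append_left _ hx)
    refine ⟨app (cokernel.π α) V₁ a, ?_⟩
    exact ((app_comp' _ _ V₁ a).symm.trans (app_eq_of_eq (cokernel.π_desc α φ hα) V₁ a)).trans ha
  haveI := hE i
  have hd : ∀ a, app (cokernel.desc α φ hα) (E i) (app (cokernel.π α) (E i) a) = app φ (E i) a := fun a =>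
    (app_comp' _ _ (E i) a).symm.trans (app_eq_of_eq (cokernel.π_desc α φ hα) (E i) a)
  refine ⟨(injective_iff_map_eq_zero _).2 fun y hy => ?_, fun s => ?_⟩
  · obtain ⟨a, rfl⟩ := app_cokernel_surjective α hF₂ hF (E i) y
    rw [hd] at hy
    obtain ⟨k, rfl⟩ := exists_kernel φ (E i) a hy
    have hk : k ∈ LinearMap.range (app ψ (E i)) := by
      refine (Submodule.span_le (p := LinearMap.range (app ψ (E i)))).2 ?_
        (hR i ▸ Submodule.mem_top : k ∈ Submodule.span (Fn (E i)) (res K (toV₁ (E i)) '' (R : Set _)))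
      rintro _ ⟨t, ht, rfl⟩
      obtain ⟨b, hb⟩ := hmem₂ t (Finset.mem_toList.2 ht)
      exact ⟨res F₂ (toV₁ (E i)) b, by rw [app_res, hb]⟩
    obtain ⟨b, hb⟩ := hk
    refine (mem_range_iff α hF₂ hF (E i) _).2 ⟨b, ?_⟩
    rw [← hb]
    exact app_comp' ψ (kernel.ι φ) (E i) b
  · obtain ⟨a, rfl⟩ := surj i s
    exact ⟨app (cokernel.π α) (E i) a, hd a⟩

/-- Bijectivity spreads from pieces to affine objects covered by smaller ones. -/
theorem bijective_of_pieces {Q D : ModEt Y} (π : Q ⟶ D) (hQ : BCAll Q) (hD : BCAll D) {ι : Type*} (E : ι → EtOver Y)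
    (hE : ∀ i, IsAffine (E i).obj.left.left) (hb : ∀ i, Function.Bijective (app π (E i))) (P : EtOver Y)
    [IsAffine P.obj.left.left]
    (hcov : ∀ x : ↥P.obj.left.left, ∃ (P' : EtOver Y) (i : ι) (l : P' ⟶ P) (_ : P' ⟶ E i),
      IsAffine P'.obj.left.left ∧ x ∈ Set.range l.hom.left.left) : Function.Bijective (app π P) := by
  refine ⟨(injective_iff_map_eq_zero _).2 fun y hy => ?_, fun s => ?_⟩
  · obtain ⟨k, rfl⟩ := exists_kernel π P y hy
    rw [eq_zero_of_pieces (bcAll_kernel π hQ hD) E hE (fun i z => app_injective (kernel.ι π) (E i)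
      ((hb i).1 (((app_kernel_ι π (E i) z).trans (map_zero _).symm)) |>.trans (map_zero _).symm)) P hcov k, map_zero]
  · refine (mem_range_iff π hQ hD P s).1 (eq_zero_of_pieces (bcAll_cokernel π hQ hD) E hE (fun i z => ?_) P hcov _)
    haveI := hE i
    obtain ⟨w, rfl⟩ := app_cokernel_surjective π hQ hD (E i) z
    exact (mem_range_iff π hQ hD (E i) w).2 ((hb i).2 w)

end Groth.Agent.EtQC.FPres
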