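import Groth.Agent.EtQC.FP.Fib
import Groth.Agent.EtQC.FP.Model

/-!
# Objects over the first members of a chain, and lifting sections on them
-/

set_option autoImplicit false
set_option backward.isDefEq.respectTransparency false
set_option backward.isDefEq.respectTransparency.types false

universe u

set_option maxHeartbeats 800000

open CategoryTheory CategoryTheory.Limits AlgebraicGeometry Opposite AlgSp

namespace Groth.Agent.EtQC.FPres

variable {S : Scheme.{u}} {X : Sp S}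

/-- An object lying over the first `k` members of a chain. -/
def Covered (C : Chain X) (k : ℕ) (T : EtOver X) : Prop :=
  ∀ t : ↥T.obj.left.left, ∃ l : Fin C.n, l.val < k ∧ Glob.pt T t ∈ Set.range (Points.ofPt (C.W l).obj.hom)

theorem Covered.of_hom {C : Chain X} {k : ℕ} {T T' : EtOver X} (h : Covered C k T) (a : T' ⟶ T) : Covered C k T' :=
  fun t => by
    obtain ⟨l, hl, hp⟩ := h (a.hom.left.left t)
    exact ⟨l, hl, by rwa [Glob.pt_map] at hp⟩

/-- A module with finitely presented sections on the first `k` members of a chain. -/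
def FPk (C : Chain X) (k : ℕ) (N : ModEt X) : Prop :=
  ∀ l : Fin C.n, l.val < k → Module.FinitePresentation (Fn (C.W l)) (sectModEt N (C.W l))

/-- Prescribed sections on the first members of a chain come from modules finitely presented there. -/
def Hit (C : Chain X) (k : ℕ) : Prop :=
  ∀ (M : ModEt X), BCAll M → ∀ y : (∀ l : Fin C.n, List (sectModEt M (C.W l))),
    ∃ (N : ModEt X) (φ : N ⟶ M), BCAll N ∧ FPk C k N ∧
      ∀ l : Fin C.n, l.val < k → ∀ x ∈ y l, x ∈ Set.range (app φ (C.W l))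

/-- Restriction along a surjective monomorphism is bijective. -/
theorem bijective_res {T V : EtOver X} (e : T ⟶ V) (hm : ∀ {Z : EtOver X} (a b : Z ⟶ T), a ≫ e = b ≫ e → a = b)
    (hs : Function.Surjective e.hom.left.left) (A : ModEt X) : Function.Bijective (res A e) := by
  refine ⟨fun a b hab => ext_of_cover A (fun _ : Unit => T) (fun _ => e) (fun x => ⟨(), hs x⟩) fun _ => hab,
    fun q => ?_⟩
  obtain ⟨a, ha⟩ := exists_glue A (fun _ : PUnit.{u + 2} => T) (fun _ => e) (fun x => ⟨⟨⟩, hs x⟩) (fun _ => q)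
    fun i j => by rw [hm _ _ (EtOver.pullback_condition e e)]
  exact ⟨a, ha ⟨⟩⟩

theorem exists_pieces_covered [QuasiSeparatedSpace ↥S] (C : Chain X) {k : ℕ} (T : EtOver X) [CompactSpace ↥T.obj.left.left]
    (hT : Covered C k T) : ∃ (n : ℕ) (P : Fin n → EtOver X) (a : ∀ i, P i ⟶ T) (l : Fin n → Fin C.n)
      (_ : ∀ i, P i ⟶ C.W (l i)), (∀ i, IsAffine (P i).obj.left.left) ∧ (∀ i, (l i).val < k) ∧
        ∀ x : ↥T.obj.left.left, ∃ i, x ∈ Set.range (a i).hom.left.left := by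
  have key : ∀ x : ↥T.obj.left.left, ∃ (P : EtOver X) (a : P ⟶ T) (l : Fin C.n) (_ : P ⟶ C.W l),
      IsAffine P.obj.left.left ∧ l.val < k ∧ x ∈ Set.range a.hom.left.left := fun x => by
    obtain ⟨O, hO, hxO, -⟩ := exists_isAffineOpen_mem_and_subset (x := x) (U := (⊤ : T.obj.left.left.Opens)) trivial
    haveI : IsAffine (AlgSpDec.etOpen T O).obj.left.left := hO
    obtain ⟨l, hl, hp⟩ := hT x
    obtain ⟨P, h, c, hP, ht⟩ := exists_lift_nbhd (T := AlgSpDec.etOpen T O) (U := C.W l) ⟨x, hxO⟩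
      (by rw [← Glob.pt_map (AlgSpDec.etOpenι T O)]; exact hp)
    obtain ⟨p, hp'⟩ := ht
    exact ⟨P, h ≫ AlgSpDec.etOpenι T O, l, c, hP, hl, p,
      (congrArg (AlgSpDec.etOpenι T O).hom.left.left hp' :)⟩
  choose P a l c hP hl hx using key
  have hopen : ∀ x, IsOpen (Set.range (a x).hom.left.left) := fun x => by
    haveI := EtOver.etale_left (a x)
    exact (a x).hom.left.left.isOpenMap.isOpen_range
  obtain ⟨F, hF⟩ := isCompact_univ.elim_finite_subcover _ hopen fun x _ => Set.mem_iUnion.2 ⟨x, hx x⟩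
  refine ⟨F.card, fun i => P (F.equivFin.symm i).1, fun i => a _, fun i => l _, fun i => c _, fun i => hP _,
    fun i => hl _, fun x => ?_⟩
  obtain ⟨y, hy, hxy⟩ := Set.mem_iUnion₂.1 (hF (Set.mem_univ x))
  have key : ∀ z : F, z = ⟨y, hy⟩ → x ∈ Set.range (a z.1).hom.left.left := by
    rintro _ rfl
    exact hxy
  exact ⟨F.equivFin ⟨y, hy⟩, key _ (F.equivFin.symm_apply_apply _)⟩

theorem exists_list_span {M : ModEt X} (hM : BCAll M) {E P : EtOver X} (c : P ⟶ E) [IsAffine E.obj.left.left]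
    [IsAffine P.obj.left.left] (s : sectModEt M P) :
    ∃ L : List (sectModEt M E), ∀ {N : ModEt X} (φ : N ⟶ M), (∀ x ∈ L, x ∈ Set.range (app φ E)) →
      s ∈ Set.range (app φ P) := by
  classical
  obtain ⟨T, hT, hs⟩ := Submodule.mem_span_finite_of_mem_span (mem_span_res hM c s)
  choose w hw using fun t : {t // t ∈ T} => hT t.2
  refine ⟨(Finset.univ.image w).toList, fun {N} φ h => ?_⟩
  refine (?_ : s ∈ LinearMap.range (app φ P))
  refine (Submodule.span_le (p := LinearMap.range (app φ P))).2 ?_ hs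
  intro t ht
  obtain ⟨b, hb⟩ := h (w ⟨t, ht⟩) (by simp)
  exact ⟨res N c b, by rw [app_res, hb]; exact hw ⟨t, ht⟩⟩

theorem app_res_sub {A B : ModEt X} (φ : A ⟶ B) {Q P₁ P₂ : EtOver X} (a : Q ⟶ P₁) (b : Q ⟶ P₂)
    (t₁ : sectModEt A P₁) (t₂ : sectModEt A P₂) :
    app φ Q (res A a t₁ - res A b t₂) = res B a (app φ P₁ t₁) - res B b (app φ P₂ t₂) :=
  (LinearMap.map_sub (app φ Q) _ _).trans (congrArg₂ (· - ·) (app_res φ a t₁) (app_res φ b t₂))

theorem res_eq_of_sub {A B : ModEt X} (φ : A ⟶ B) {Q Z P₁ P₂ : EtOver X} (a : Q ⟶ P₁) (b : Q ⟶ P₂) (u : Z ⟶ Q)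
    (a' : Z ⟶ P₁) (b' : Z ⟶ P₂) (ha : u ≫ a = a') (hb : u ≫ b = b')
    (t₁ : sectModEt A P₁) (t₂ : sectModEt A P₂) (h : app φ Q (res A a t₁ - res A b t₂) = 0) :
    res B a' (app φ P₁ t₁) = res B b' (app φ P₂ t₂) := by
  have h1 : res B a (app φ P₁ t₁) = res B b (app φ P₂ t₂) := sub_eq_zero.1 ((app_res_sub φ a b t₁ t₂).symm.trans h)
  rw [← ha, ← hb, res_comp, res_comp, h1]

theorem app_res_sub_eq_zero {A B : ModEt X} (φ : A ⟶ B) {Q P₁ P₂ T : EtOver X} (a : Q ⟶ P₁) (b : Q ⟶ P₂)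
    (g₁ : P₁ ⟶ T) (g₂ : P₂ ⟶ T) (hg : a ≫ g₁ = b ≫ g₂) (m : sectModEt B T)
    (t₁ : sectModEt A P₁) (t₂ : sectModEt A P₂) (h₁ : app φ P₁ t₁ = res B g₁ m) (h₂ : app φ P₂ t₂ = res B g₂ m) :
    app φ Q (res A a t₁ - res A b t₂) = 0 := by
  refine (app_res_sub φ a b t₁ t₂).trans (sub_eq_zero.2 ?_)
  rw [h₁, h₂, ← res_comp, ← res_comp, hg]

theorem exists_diff_kernel {A B : ModEt X} (φ : A ⟶ B) {Q P₁ P₂ T : EtOver X} (a : Q ⟶ P₁) (b : Q ⟶ P₂)
    (g₁ : P₁ ⟶ T) (g₂ : P₂ ⟶ T) (hg : a ≫ g₁ = b ≫ g₂) (m : sectModEt B T)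
    (t₁ : sectModEt A P₁) (t₂ : sectModEt A P₂) (h₁ : app φ P₁ t₁ = res B g₁ m) (h₂ : app φ P₂ t₂ = res B g₂ m) :
    ∃ k, app (kernel.ι φ) Q k = res A a t₁ - res A b t₂ :=
  exists_kernel φ Q _ (app_res_sub_eq_zero φ a b g₁ g₂ hg m t₁ t₂ h₁ h₂)

/-- Prescribed sections on a small quasi-compact object lift. -/
theorem exists_lifts [QuasiSeparatedSpace ↥S] (C : Chain X) {k : ℕ} (hk : Hit C k) {M : ModEt X} (hM : BCAll M)
    (y : ∀ l : Fin C.n, List (sectModEt M (C.W l))) {T V : EtOver X} [CompactSpace ↥T.obj.left.left]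
    [IsAffine V.obj.left.left] (e : T ⟶ V) (hm : ∀ {Z : EtOver X} (a b : Z ⟶ T), a ≫ e = b ≫ e → a = b)
    (hT : Covered C k T) {r : ℕ} (m : Fin r → sectModEt M T) :
    ∃ (N : ModEt X) (φ : N ⟶ M), BCAll N ∧ FPk C k N ∧
      (∀ l : Fin C.n, l.val < k → ∀ x ∈ y l, x ∈ Set.range (app φ (C.W l))) ∧
      ∀ a, m a ∈ Set.range (app φ T) := by
  classical
  obtain ⟨n, P, g, l, c, hP, hl, hcov⟩ := exists_pieces_covered C T hT
  haveI := hP
  choose L hL using fun p : Fin n × Fin r => exists_list_span hM (c p.1) (res M (g p.1) (m p.2))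
  let y' : ∀ j : Fin C.n, List (sectModEt M (C.W j)) := fun j =>
    y j ++ (Finset.univ : Finset (Fin n × Fin r)).toList.flatMap fun p => if h : l p.1 = j then h ▸ L p else []
  obtain ⟨N, φ, hN, hFP, hy⟩ := hk M hM y'
  have hlift : ∀ i a, res M (g i) (m a) ∈ Set.range (app φ (P i)) := fun i a =>
    hL (i, a) φ fun x hx => hy (l i) (hl i) x (List.mem_append_right _ (List.mem_flatMap.2
      ⟨(i, a), Finset.mem_toList.2 (Finset.mem_univ _), by simpa using hx⟩))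
  choose t ht using hlift
  -- the differences on overlaps
  let Q : Fin n × Fin n → EtOver X := fun q => EtOver.pullbackObj (g q.1 ≫ e) (g q.2 ≫ e)
  have hw : ∀ q : Fin n × Fin n, EtOver.pullbackFst (g q.1 ≫ e) (g q.2 ≫ e) ≫ g q.1 =
      EtOver.pullbackSnd (g q.1 ≫ e) (g q.2 ≫ e) ≫ g q.2 := fun q => hm _ _ (by
    rw [Category.assoc, Category.assoc]
    exact EtOver.pullback_condition _ _)
  have hdiff : ∀ p : (Fin n × Fin n) × Fin r, ∃ k : sectModEt (kernel φ) (Q p.1),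
      app (kernel.ι φ) (Q p.1) k = res N (EtOver.pullbackFst (g p.1.1 ≫ e) (g p.1.2 ≫ e)) (t p.1.1 p.2) -
        res N (EtOver.pullbackSnd (g p.1.1 ≫ e) (g p.1.2 ≫ e)) (t p.1.2 p.2) := fun p =>
    exists_diff_kernel φ (EtOver.pullbackFst (g p.1.1 ≫ e) (g p.1.2 ≫ e))
      (EtOver.pullbackSnd (g p.1.1 ≫ e) (g p.1.2 ≫ e)) (g p.1.1) (g p.1.2) (hw p.1) (m p.2)
      (t p.1.1 p.2) (t p.1.2 p.2) (ht p.1.1 p.2) (ht p.1.2 p.2)
  choose d' hd' using hdiff
  have hK : BCAll (kernel φ) := bcAll_kernel φ hN hM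
  choose L' hL' using fun p : (Fin n × Fin n) × Fin r =>
    exists_list_span hK (EtOver.pullbackFst (g p.1.1 ≫ e) (g p.1.2 ≫ e) ≫ c p.1.1) (d' p)
  let y'' : ∀ j : Fin C.n, List (sectModEt (kernel φ) (C.W j)) := fun j =>
    (Finset.univ : Finset ((Fin n × Fin n) × Fin r)).toList.flatMap fun p => if h : l p.1.1 = j then h ▸ L' p else []
  obtain ⟨R, χ, hR, hRFP, hz⟩ := hk (kernel φ) hK y''
  let α : R ⟶ N := χ ≫ kernel.ι φ
  have hα : α ≫ φ = 0 := by rw [Category.assoc, kernel.condition, comp_zero]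
  let N₁ := cokernel α
  let φ₁ : N₁ ⟶ M := cokernel.desc α φ hα
  have hφ₁ : ∀ (E : EtOver X) a, app φ₁ E (app (cokernel.π α) E a) = app φ E a := fun E a =>
    (app_comp' _ _ E a).symm.trans (app_eq_of_eq (cokernel.π_desc α φ hα) E a)
  refine ⟨N₁, φ₁, bcAll_cokernel α hR hN, fun j hj => ?_, fun j hj x hx => ?_, fun a => ?_⟩
  · haveI := hRFP j hj
    haveI := hFP j hj
    refine Module.finitePresentation_of_surjective (app (cokernel.π α) (C.W j))
      (app_cokernel_surjective α hR hN (C.W j)) ?_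
    rw [show LinearMap.ker (app (cokernel.π α) (C.W j)) = LinearMap.range (app α (C.W j)) from
      Submodule.ext fun y => mem_range_iff α hR hN (C.W j) y]
    exact Module.Finite.iff_fg.1 (Module.Finite.range _)
  · obtain ⟨b, hb⟩ := hy j hj x (List.mem_append_left _ hx)
    exact ⟨app (cokernel.π α) (C.W j) b, (hφ₁ _ b).trans hb⟩
  let t₁ : ∀ i, sectModEt N₁ (P i) := fun i => app (cokernel.π α) (P i) (t i a)
  have hzero : ∀ q : Fin n × Fin n, app (cokernel.π α) (Q q) (res N (EtOver.pullbackFst (g q.1 ≫ e) (g q.2 ≫ e)) (t q.1 a) -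
        res N (EtOver.pullbackSnd (g q.1 ≫ e) (g q.2 ≫ e)) (t q.2 a)) = 0 := fun q => by
    obtain ⟨b, hb⟩ := hL' (q, a) χ fun x hx => hz (l q.1) (hl q.1) x (List.mem_flatMap.2
      ⟨(q, a), Finset.mem_toList.2 (Finset.mem_univ _), by simpa using hx⟩)
    refine (mem_range_iff α hR hN (Q q) _).2 ⟨b, ?_⟩
    exact (app_comp' χ (kernel.ι φ) (Q q) b).trans ((congrArg (app (kernel.ι φ) (Q q)) hb).trans (hd' (q, a)))
  obtain ⟨s, hs⟩ := exists_glue N₁ (ι := ULift.{u + 1} (Fin n)) (fun i => P i.down) (fun i => g i.down)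
    (fun x => by obtain ⟨i, hi⟩ := hcov x; exact ⟨⟨i⟩, hi⟩) (fun i => t₁ i.down) fun i j => by
      let u : EtOver.pullbackObj (g i.down) (g j.down) ⟶ Q (i.down, j.down) :=
        (EtOver.isPullback (g i.down ≫ e) (g j.down ≫ e)).lift (EtOver.pullbackFst _ _) (EtOver.pullbackSnd _ _)
          (by rw [← Category.assoc, ← Category.assoc, EtOver.pullback_condition])
      exact res_eq_of_sub (cokernel.π α) _ _ u _ _ ((EtOver.isPullback _ _).lift_fst _ _ _)
        ((EtOver.isPullback _ _).lift_snd _ _ _) _ _ (hzero (i.down, j.down))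
  refine ⟨s, ext_of_cover M P g hcov fun i => ?_⟩
  rw [← app_res, hs ⟨i⟩, hφ₁, ht]

end Groth.Agent.EtQC.FPres
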