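import Groth.Agent.EtQC.FP.Basic
import Groth.Agent.EtQC.FTOpen

/-!
# Modules glued from a module and a module on an etale neighbourhood
-/

set_option autoImplicit false
set_option backward.isDefEq.respectTransparency false
set_option backward.isDefEq.respectTransparency.types false

universe u

set_option maxHeartbeats 800000

open CategoryTheory CategoryTheory.Limits AlgebraicGeometry Opposite AlgSp

namespace Groth.Agent.EtQC.FPres

variable {S : Scheme.{u}} {X Y : Sp S}

/-- Bijectivity on affine objects over an object gives bijectivity on the object. -/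
theorem bijective_of_affine {C D : ModEt X} (φ : C ⟶ D) (T : EtOver X)
    (h : ∀ (W : EtOver X) (_ : W ⟶ T), IsAffine W.obj.left.left → Function.Bijective (app φ W)) :
    Function.Bijective (app φ T) := by
  have inj : ∀ (E : EtOver X) (_ : E ⟶ T), Function.Injective (app φ E) := fun E e a b hab => by
    choose O hO hxO using fun z : ↥E.obj.left.left =>
      exists_isAffineOpen_mem_and_subset (x := z) (U := (⊤ : E.obj.left.left.Opens)) trivial
    refine ext_of_cover C (fun z => AlgSpDec.etOpen E (O z)) (fun z => AlgSpDec.etOpenι E (O z))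
      (fun z => ⟨z, by rw [AlgSpDec.range_etOpenι]; exact (hxO z).1⟩) fun z => (h _ (AlgSpDec.etOpenι E (O z) ≫ e) (hO z)).1 ?_
    rw [app_res, app_res, hab]
  refine ⟨inj T (𝟙 T), fun d => ?_⟩
  choose O hO hxO using fun z : ↥T.obj.left.left =>
    exists_isAffineOpen_mem_and_subset (x := z) (U := (⊤ : T.obj.left.left.Opens)) trivial
  choose c hc using fun z : ULift.{u + 1} ↥T.obj.left.left =>
    (h _ (AlgSpDec.etOpenι T (O z.down)) (hO z.down)).2 (res D (AlgSpDec.etOpenι T (O z.down)) d)
  obtain ⟨t, ht⟩ := exists_glue C (fun z : ULift.{u + 1} ↥T.obj.left.left => AlgSpDec.etOpen T (O z.down))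
    (fun z => AlgSpDec.etOpenι T (O z.down))
    (fun z => ⟨⟨z⟩, by rw [AlgSpDec.range_etOpenι]; exact (hxO z).1⟩) c fun i j =>
      inj _ (EtOver.pullbackFst _ _ ≫ AlgSpDec.etOpenι T (O i.down)) (by
        rw [app_res, app_res, hc, hc, ← res_comp, ← res_comp, EtOver.pullback_condition])
  refine ⟨t, ext_of_cover D (fun z : ULift.{u + 1} ↥T.obj.left.left => AlgSpDec.etOpen T (O z.down))
    (fun z => AlgSpDec.etOpenι T (O z.down))
    (fun z => ⟨⟨z⟩, by rw [AlgSpDec.range_etOpenι]; exact (hxO z).1⟩) fun i => ?_⟩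
  rw [← app_res, ht, hc]

section Fib

variable {f : Y ⟶ X} (hrep : Representable f) (hf : IsEtaleMor f) (A : ModEt X) (C : ModEt Y)
  (π : C ⟶ (OpenExt.restr hf).obj A)

/-- The map whose kernel is the glued module. -/
noncomputable def fibMap : (A ⊞ (pushModEt hrep).obj C : ModEt X) ⟶ (pushModEt hrep).obj ((OpenExt.restr hf).obj A) :=
  biprod.desc (OpenExt.psi hrep hf (𝟙 _)) (-(pushModEt hrep).map π)

/-- The glued module. -/
noncomputable def Fib : ModEt X := kernel (fibMap hrep hf A C π)

/-- The projection of the glued module. -/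
noncomputable def fibFst : Fib hrep hf A C π ⟶ A := kernel.ι (fibMap hrep hf A C π) ≫ biprod.fst

/-- The projection of the glued module to the neighbourhood. -/
noncomputable def fibSndHom : Fib hrep hf A C π ⟶ (pushModEt hrep).obj C :=
  kernel.ι (fibMap hrep hf A C π) ≫ biprod.snd

/-- The part over the neighbourhood of a section. -/
noncomputable def fibSnd (W : EtOver X) (x : sectModEt (Fib hrep hf A C π) W) : sectModEt C (EtOver.bcObj hrep W) :=
  app (fibSndHom hrep hf A C π) W x

theorem app_fibMap (W : EtOver X) (z : sectModEt (A ⊞ (pushModEt hrep).obj C : ModEt X) W) :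
    app (fibMap hrep hf A C π) W z = (show sectModEt ((pushModEt hrep).obj ((OpenExt.restr hf).obj A)) W from
      ((show sectModEt ((OpenExt.restr hf).obj A) (EtOver.bcObj hrep W) from
          res A (OpenExt.eps hrep hf W) (app biprod.fst W z)) -
        app π (EtOver.bcObj hrep W)
          (show sectModEt C (EtOver.bcObj hrep W) from app (biprod.snd : A ⊞ (pushModEt hrep).obj C ⟶ _) W z))) := by
  conv_lhs => rw [← biprod_decomp W z]
  refine (map_add (app (fibMap hrep hf A C π) W) _ _).trans ?_
  rw [sub_eq_add_neg]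
  refine congrArg₂ (· + ·) ?_ ?_
  · exact (desc_inl _ _ W _).trans rfl
  · exact (desc_inr _ _ W _).trans rfl

theorem fib_compat (W : EtOver X) (x : sectModEt (Fib hrep hf A C π) W) :
    app π (EtOver.bcObj hrep W) (fibSnd hrep hf A C π W x) = (show sectModEt ((OpenExt.restr hf).obj A)
      (EtOver.bcObj hrep W) from res A (OpenExt.eps hrep hf W) (app (fibFst hrep hf A C π) W x)) := by
  have h := (app_fibMap hrep hf A C π W (app (kernel.ι (fibMap hrep hf A C π)) W x)).symm.trans
    (app_kernel_ι (fibMap hrep hf A C π) W x)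
  exact (sub_eq_zero.1 h).symm

theorem fib_ext (W : EtOver X) {x y : sectModEt (Fib hrep hf A C π) W}
    (h1 : app (fibFst hrep hf A C π) W x = app (fibFst hrep hf A C π) W y)
    (h2 : fibSnd hrep hf A C π W x = fibSnd hrep hf A C π W y) : x = y := by
  have e1 := (app_comp' (kernel.ι (fibMap hrep hf A C π)) biprod.fst W x).symm.trans
    (h1.trans (app_comp' (kernel.ι (fibMap hrep hf A C π)) biprod.fst W y))
  have e2 := (app_comp' (kernel.ι (fibMap hrep hf A C π)) biprod.snd W x).symm.trans
    ((show app (fibSndHom hrep hf A C π) W x = app (fibSndHom hrep hf A C π) W y from h2).trans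
      (app_comp' (kernel.ι (fibMap hrep hf A C π)) biprod.snd W y))
  exact app_injective (kernel.ι (fibMap hrep hf A C π)) W ((biprod_decomp W _).symm.trans
    ((congrArg₂ (· + ·) (congrArg (app biprod.inl W) e1) (congrArg (app biprod.inr W) e2)).trans (biprod_decomp W _)))

theorem exists_fib (W : EtOver X) (a : sectModEt A W) (q : sectModEt C (EtOver.bcObj hrep W))
    (h : app π (EtOver.bcObj hrep W) q = (show sectModEt ((OpenExt.restr hf).obj A) (EtOver.bcObj hrep W) from
      res A (OpenExt.eps hrep hf W) a)) :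
    ∃ x, app (fibFst hrep hf A C π) W x = a ∧ fibSnd hrep hf A C π W x = q := by
  let q' : sectModEt ((pushModEt hrep).obj C) W := q
  let z : sectModEt (A ⊞ (pushModEt hrep).obj C : ModEt X) W :=
    app biprod.inl W a + app biprod.inr W q'
  have e1 : app (biprod.fst : A ⊞ (pushModEt hrep).obj C ⟶ A) W z = a :=
    ((map_add (app biprod.fst W) _ _).trans (congrArg₂ (· + ·) (fst_inl W a) (fst_inr W q'))).trans (add_zero _)
  have e2 : app (biprod.snd : A ⊞ (pushModEt hrep).obj C ⟶ _) W z = q' :=
    ((map_add (app biprod.snd W) _ _).trans (congrArg₂ (· + ·) (snd_inl W a) (snd_inr W q'))).trans (zero_add _)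
  obtain ⟨x, hx⟩ := exists_kernel (fibMap hrep hf A C π) W z (by
    rw [app_fibMap, e1, e2]
    exact sub_eq_zero.2 h.symm)
  refine ⟨x, ?_, ?_⟩
  · exact ((app_comp' _ _ W x).trans (congrArg (app biprod.fst W) hx)).trans e1
  · exact ((app_comp' _ _ W x).trans (congrArg (app biprod.snd W) hx)).trans e2

theorem fib_res {W W' : EtOver X} (l : W' ⟶ W) (x : sectModEt (Fib hrep hf A C π) W) :
    fibSnd hrep hf A C π W' (res _ l x) = res C (EtOver.bcMap hrep l) (fibSnd hrep hf A C π W x) :=
  app_res (fibSndHom hrep hf A C π) l x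

theorem bijective_fibFst (W : EtOver X) (h : Function.Bijective (app π (EtOver.bcObj hrep W))) :
    Function.Bijective (app (fibFst hrep hf A C π) W) := by
  refine ⟨fun x y hxy => fib_ext hrep hf A C π W hxy (h.1 ?_), fun a => ?_⟩
  · rw [fib_compat, fib_compat, hxy]
  · obtain ⟨q, hq⟩ := h.2 (show sectModEt ((OpenExt.restr hf).obj A) (EtOver.bcObj hrep W) from
      res A (OpenExt.eps hrep hf W) a)
    obtain ⟨x, hx, -⟩ := exists_fib hrep hf A C π W a q hq
    exact ⟨x, hx⟩

theorem bcAll_fib (hqc : IsQuasiCompactMor f) (hqs : IsQuasiSeparatedMor f) (hA : BCAll A) (hC : BCAll C) :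
    BCAll (Fib hrep hf A C π) :=
  bcAll_kernel _ (Serre.bcAll_biprod hA (bcAll_push_qcqs hrep hqc hqs hC))
    (bcAll_push_qcqs hrep hqc hqs (bcAll_restrict hf hA))

end Fib

end Groth.Agent.EtQC.FPres
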