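import Groth.Agent.EtQC.FP.Cover
import Groth.Agent.AlgSpDec.LimAffineStage

/-!
# Extending finite presentation over one more member of a chain
-/

set_option autoImplicit false
set_option backward.isDefEq.respectTransparency false
set_option backward.isDefEq.respectTransparency.types false

universe u

set_option maxHeartbeats 800000

open CategoryTheory CategoryTheory.Limits AlgebraicGeometry Opposite AlgSp
open Groth.Agent.AlgSpPts

namespace Groth.Agent.EtQC.FPres

variable {S : Scheme.{u}} {X : Sp S}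

/-- The objects over the first members of a chain form an open part. -/
theorem exists_open_covered (C : Chain X) (k : ℕ) (T : EtOver X) :
    ∃ O : T.obj.left.left.Opens, ∀ t : ↥T.obj.left.left,
      t ∈ O ↔ ∃ l : Fin C.n, l.val < k ∧ Glob.pt T t ∈ Set.range (Points.ofPt (C.W l).obj.hom) := by
  refine ⟨⟨Glob.pt T ⁻¹' ⋃ (l : Fin C.n) (_ : l.val < k), Set.range (Points.ofPt (C.W l).obj.hom),
    (isOpen_iUnion fun l => isOpen_iUnion fun _ => isOpen_range_ofPt (C.W l)).preimage (Points.continuous_ofPt _)⟩,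
    fun t => ?_⟩
  show Glob.pt T t ∈ ⋃ (l : Fin C.n) (_ : l.val < k), Set.range (Points.ofPt (C.W l).obj.hom) ↔ _
  rw [Set.mem_iUnion₂]
  exact ⟨fun ⟨l, hl, h⟩ => ⟨l, hl, h⟩, fun ⟨l, hl, h⟩ => ⟨l, hl, h⟩⟩

section Vee

variable (V₀ : EtOver X)

theorem isEtaleMor_hom : IsEtaleMor V₀.obj.hom := AlgSpLib.isEtaleMor_of_repWith V₀.property

/-- The final object over a neighbourhood. -/
noncomputable def topV : EtOver ((yon S).obj V₀.obj.left) := EtOver.mk (𝟙 _) (repWith_id @Etale V₀.obj.left)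

/-- The map to the final object over a neighbourhood. -/
noncomputable def toTopV (E : EtOver ((yon S).obj V₀.obj.left)) : E ⟶ topV V₀ :=
  EtOver.homMk ((yon S).preimage E.obj.hom) ((Category.comp_id _).trans ((yon S).map_preimage _))

theorem toTopV_unique {E : EtOver ((yon S).obj V₀.obj.left)} (a b : E ⟶ topV V₀) : a = b :=
  EtOver.hom_ext _ _ ((yon S).map_injective (((Category.comp_id _).symm.trans (EtOver.w a)).trans
    ((EtOver.w b).symm.trans (Category.comp_id _))))

/-- The neighbourhood, from the final object over it. -/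
noncomputable def topVHom : (EtOver.postcomp V₀.obj.hom (isEtaleMor_hom V₀)).obj (topV V₀) ⟶ V₀ :=
  EtOver.homMk (𝟙 V₀.obj.left) (show (yon S).map (𝟙 V₀.obj.left) ≫ V₀.obj.hom = 𝟙 _ ≫ V₀.obj.hom by
    rw [CategoryTheory.Functor.map_id])

/-- The final object over the neighbourhood, from the neighbourhood. -/
noncomputable def topVInv : V₀ ⟶ (EtOver.postcomp V₀.obj.hom (isEtaleMor_hom V₀)).obj (topV V₀) :=
  EtOver.homMk (𝟙 V₀.obj.left) (show (yon S).map (𝟙 V₀.obj.left) ≫ 𝟙 _ ≫ V₀.obj.hom = V₀.obj.hom by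
    rw [CategoryTheory.Functor.map_id, Category.id_comp, Category.id_comp])

theorem topV_inv_hom : topVHom V₀ ≫ topVInv V₀ = 𝟙 _ :=
  EtOver.hom_ext _ _ (Category.id_comp (𝟙 V₀.obj.left))

/-- Restriction of scalars to an isomorphic object. -/
theorem mem_range_res_top {A B : ModEt X} (φ : A ⟶ B) (x : sectModEt B V₀)
    (h : res B (topVHom V₀) x ∈ Set.range (app φ ((EtOver.postcomp V₀.obj.hom (isEtaleMor_hom V₀)).obj (topV V₀)))) :
    x ∈ Set.range (app φ V₀) := by
  obtain ⟨a, ha⟩ := h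
  refine ⟨res A (topVInv V₀) a, ?_⟩
  rw [app_res, ha, ← res_comp, show topVInv V₀ ≫ topVHom V₀ = 𝟙 _ from
    EtOver.hom_ext _ _ (Category.id_comp (𝟙 V₀.obj.left)), res_id]

/-- A factorization through the unit at the final object. -/
theorem exists_factor_unit {E : EtOver ((yon S).obj V₀.obj.left)}
    (T : EtOver X) (h : T ⟶ (EtOver.postcomp V₀.obj.hom (isEtaleMor_hom V₀)).obj (EtOver.bcObj V₀.property.1
      ((EtOver.postcomp V₀.obj.hom (isEtaleMor_hom V₀)).obj (topV V₀))))
    (hab : h ≫ OpenExt.eps V₀.property.1 (isEtaleMor_hom V₀) _ ≫ topVHom V₀ =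
      h ≫ (EtOver.postcomp V₀.obj.hom (isEtaleMor_hom V₀)).map (toTopV V₀ _) ≫ topVHom V₀)
    (hh : E ⟶ EtOver.bcObj V₀.property.1 ((EtOver.postcomp V₀.obj.hom (isEtaleMor_hom V₀)).obj (topV V₀)))
    (e : E.obj.left ⟶ T.obj.left) (he : e ≫ h.hom.left = hh.hom.left) :
    toTopV V₀ E ≫ (AlgSpDec.EtPullRestrict.adj V₀.property.1 (isEtaleMor_hom V₀)).unit.app (topV V₀) = hh := by
  let ad := AlgSpDec.EtPullRestrict.adj V₀.property.1 (isEtaleMor_hom V₀)
  apply (ad.homEquiv _ _).symm.injective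
  rw [Adjunction.homEquiv_counit, Adjunction.homEquiv_counit, Functor.map_comp, Category.assoc,
    ad.left_triangle_components, Category.comp_id, toTopV_unique V₀ (toTopV V₀ E) (hh ≫ toTopV V₀ _), Functor.map_comp]
  refine EtOver.hom_ext _ _ ?_
  have hab' : h ≫ OpenExt.eps V₀.property.1 (isEtaleMor_hom V₀) _ =
      h ≫ (EtOver.postcomp V₀.obj.hom (isEtaleMor_hom V₀)).map (toTopV V₀ _) := by
    have h0 := congrArg (· ≫ topVInv V₀) hab
    simp only [Category.assoc, topV_inv_hom, Category.comp_id] at h0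
    exact h0
  show hh.hom.left ≫ _ = hh.hom.left ≫ _
  rw [← he, Category.assoc, Category.assoc]
  exact congrArg (e ≫ ·) (congrArg (fun m => m.hom.left) hab').symm

end Vee

section Sect

variable {Y : Sp S} {Q D : ModEt Y} (π : Q ⟶ D) {V₁ T : EtOver Y} (σ : V₁ ⟶ T) (toV₁ : ∀ E : EtOver Y, E ⟶ V₁)
  (huniq : ∀ {E : EtOver Y} (a b : E ⟶ V₁), a = b) (G : EtOver Y → Prop)
  (hG : ∀ {E E' : EtOver Y}, G E → (E' ⟶ E) → G E') (hbij : ∀ E, G E → Function.Bijective (app π E))
  {ι : Type (u + 1)} (R : ι → EtOver Y) (g : ∀ z, R z ⟶ T)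
  (hcov : ∀ x : ↥T.obj.left.left, ∃ z, x ∈ Set.range (g z).hom.left.left) (hor : ∀ z, G (R z) ∨ toV₁ (R z) ≫ σ = g z)

include hbij hcov hor in
theorem eq_zero_of_section (q : sectModEt Q T) (h1 : app π T q = 0) (h2 : res Q σ q = 0) : q = 0 := by
  refine ext_of_cover Q R g hcov fun z => ?_
  rw [map_zero]
  rcases hor z with hc | he
  · exact (hbij (R z) hc).1 (by rw [app_res, h1, map_zero, map_zero])
  · rw [← he, res_comp, h2, map_zero]

include huniq hG hbij hcov hor in
theorem exists_of_section (d : sectModEt D T) (q₀ : sectModEt Q V₁) (h : app π V₁ q₀ = res D σ d) :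
    ∃ q, app π T q = d ∧ res Q σ q = q₀ := by
  classical
  have hex : ∀ z, ∃ s : sectModEt Q (R z), app π (R z) s = res D (g z) d ∧
      (toV₁ (R z) ≫ σ = g z → s = res Q (toV₁ (R z)) q₀) := fun z => by
    by_cases he : toV₁ (R z) ≫ σ = g z
    · refine ⟨res Q (toV₁ (R z)) q₀, ?_, fun _ => rfl⟩
      rw [app_res, h, ← res_comp, he]
    · obtain ⟨s, hs⟩ := (hbij (R z) ((hor z).resolve_right he)).2 (res D (g z) d)
      exact ⟨s, hs, fun h => absurd h he⟩
  choose s hs hs' using hex
  obtain ⟨q, hq⟩ := exists_glue Q R g hcov s fun z w => by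
    by_cases hc : toV₁ (R z) ≫ σ = g z ∧ toV₁ (R w) ≫ σ = g w
    · rw [hs' z hc.1, hs' w hc.2, ← res_comp, ← res_comp]
      exact congrArg (fun m => res Q m q₀) (huniq _ _)
    · have hcv : G (EtOver.pullbackObj (g z) (g w)) := by
        rcases hor z with h | h
        · exact hG h (EtOver.pullbackFst _ _)
        · rcases hor w with h' | h'
          · exact hG h' (EtOver.pullbackSnd _ _)
          · exact absurd ⟨h, h'⟩ hc
      refine (hbij _ hcv).1 ?_
      rw [app_res, app_res, hs, hs, ← res_comp, ← res_comp, EtOver.pullback_condition]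
  refine ⟨q, ext_of_cover D R g hcov fun z => by rw [← app_res, hq, hs], ?_⟩
  refine ext_of_cover Q (fun z => EtOver.pullbackObj (g z) σ) (fun z => EtOver.pullbackSnd (g z) σ) (fun x => ?_) fun z => ?_
  · obtain ⟨z, r, hr⟩ := hcov (σ.hom.left.left x)
    obtain ⟨w, -, hw⟩ := Scheme.Pullback.exists_preimage_pullback r x hr
    exact ⟨z, (isPullback_left (g z) σ).isoPullback.inv w, by
      rw [← Scheme.Hom.comp_apply, IsPullback.isoPullback_inv_snd]
      exact hw⟩
  · rw [← res_comp, ← EtOver.pullback_condition, res_comp, hq]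
    rcases hor z with hc | he
    · refine (hbij _ (hG hc (EtOver.pullbackFst _ _))).1 ?_
      rw [app_res, app_res, hs, h, ← res_comp, ← res_comp, EtOver.pullback_condition]
    · rw [hs' _ he, ← res_comp]
      exact congrArg (fun m => res Q m q₀) (huniq _ _)

end Sect

/-- Finite presentation extends over one more member of the chain, keeping prescribed sections. -/
theorem exists_glue_step [QuasiSeparatedSpace ↥S] (hA : IsAlgSpace X) (hqs : IsQuasiSeparatedSp X) (C : Chain X)
    (i : Fin C.n) {N : ModEt X} (hN : BCAll N) (hFP : FPk C i.val N) (p : List (sectModEt N (C.W i))) :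
    ∃ (N' : ModEt X) (ρ : N' ⟶ N), BCAll N' ∧ FPk C (i.val + 1) N' ∧
      (∀ x ∈ p, x ∈ Set.range (app ρ (C.W i))) ∧
      ∀ l : Fin C.n, l.val < i.val → Function.Bijective (app ρ (C.W l)) := by
  classical
  let V₀ := C.W i
  let hrep := V₀.property.1
  let hf := isEtaleMor_hom V₀
  let pc := EtOver.postcomp V₀.obj.hom hf
  let V₁ := topV V₀
  let V' := pc.obj V₁
  haveI : IsAffine V₁.obj.left.left := C.aff i
  haveI : IsAffine V'.obj.left.left := C.aff i
  let D := (OpenExt.restr hf).obj N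
  have hD : BCAll D := bcAll_restrict hf hN
  have hY : IsQuasiCompactSp ((yon S).obj V₀.obj.left) := AlgSpLib.isQuasiCompactSp_yon _
  have hYs : IsQuasiSeparatedSp ((yon S).obj V₀.obj.left) :=
    (AlgSpDec.isQuasiSeparatedSp_yon_iff' _).2 (AlgSpDec.quasiSeparated_hom_of_affine _)
  have hqcm : IsQuasiCompactMor V₀.obj.hom := isQuasiCompactMor_of_qc_qs (IsAlgSpace.yon_obj _) hA hY hqs _
  have hqsm : IsQuasiSeparatedMor V₀.obj.hom := AlgSpDec.isQuasiSeparatedMor_of_sp _ hYs hqs
  -- the pieces of the neighbourhood over the earlier members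
  haveI hcomp : ∀ l : Fin C.n, CompactSpace ↥(EtOver.bcObj hrep (C.W l)).obj.left.left := fun l =>
    (isQuasiCompactSp_yon_iff _).1 (hqcm (IsAlgSpace.yon_obj (C.W l).obj.left)
      (AlgSpLib.isQuasiCompactSp_yon (C.W l).obj.left) (C.W l).obj.hom (hrep.fst _)
      ((yon S).map (hrep.snd _)) (hrep.isPullback _))
  choose nE P a hPaff _ hcov using fun l : Fin C.n => exists_finite_affine (EtOver.bcObj hrep (C.W l))
  let I := Σ l : {l : Fin C.n // l.val < i.val}, Fin (nE l.1)
  let eI : Fin (Fintype.card I) ≃ I := (Fintype.equivFin I).symm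
  let E : Fin (Fintype.card I) → EtOver ((yon S).obj V₀.obj.left) := fun q => P (eI q).1.1 (eI q).2
  have hE : ∀ q, IsAffine (E q).obj.left.left := fun q => hPaff _ _
  have hEfp : ∀ q, Module.FinitePresentation (Fn (E q)) (sectModEt D (E q)) := fun q => by
    haveI := hE q
    haveI : IsAffine (pc.obj (E q)).obj.left.left := hE q
    haveI := hFP (eI q).1.1 (eI q).1.2
    exact (fp_of_res hN (pc.map (a (eI q).1.1 (eI q).2) ≫ OpenExt.eps hrep hf _) :)
  obtain ⟨Q, π, hQ, hQFP, hQp, hQb⟩ := exists_model hD (toTopV V₀) (toTopV_unique V₀) E hE hEfp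
    (p.map fun x => (show sectModEt D V₁ from res N (topVHom V₀) x))
  have hbijA : ∀ (R : EtOver ((yon S).obj V₀.obj.left)), IsAffine R.obj.left.left → Covered C i.val (pc.obj R) →
      Function.Bijective (app π R) := fun R hR hc => by
    refine bijective_of_pieces π hQ hD E hE hQb R fun x => ?_
    haveI : IsAffine (pc.obj R).obj.left.left := hR
    obtain ⟨l, hl, hp⟩ := hc x
    obtain ⟨T', h, c, hT', hx⟩ := exists_lift_nbhd (T := pc.obj R) (U := C.W l) x hp
    let R' : EtOver ((yon S).obj V₀.obj.left) := EtOver.mk ((yon S).map h.hom.left ≫ R.obj.hom)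
      (AlgSpLib.repWith_comp ((repWith_yon_map_iff _ _).2 (EtOver.etale_left h)) R.property)
    let h' : R' ⟶ R := EtOver.homMk h.hom.left rfl
    let i' : pc.obj R' ⟶ T' := EtOver.homMk (𝟙 T'.obj.left) (by
      show (yon S).map (𝟙 T'.obj.left) ≫ T'.obj.hom = ((yon S).map h.hom.left ≫ R.obj.hom) ≫ V₀.obj.hom
      rw [CategoryTheory.Functor.map_id, Category.id_comp, Category.assoc]
      exact (EtOver.w h).symm)
    let c' : R' ⟶ EtOver.bcObj hrep (C.W l) :=
      (AlgSpDec.EtPullRestrict.adj hrep hf).homEquiv R' (C.W l) (i' ≫ c)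
    obtain ⟨x', hx'⟩ := hx
    obtain ⟨j, y, hy⟩ := hcov l (c'.hom.left.left x')
    obtain ⟨R'', q, q', hR'', ⟨x'', hx''⟩⟩ := exists_common_affine R' (P l j) (v := x') (w := y) (by
      show Glob.pt (P l j) y = Glob.pt R' x'
      rw [← Glob.pt_map (a l j), hy, Glob.pt_map])
    let qE : Fin (Fintype.card I) := eI.symm ⟨⟨l, hl⟩, j⟩
    have hqE : E qE = P l j := by
      show P (eI qE).1.1 (eI qE).2 = P l j
      rw [Equiv.apply_symm_apply]
    refine ⟨R'', qE, q ≫ h', q' ≫ eqToHom hqE.symm, hR'', x'', ?_⟩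
    show h.hom.left.left (q.hom.left.left x'') = x
    rw [hx'', hx']
  have hbij : ∀ (R : EtOver ((yon S).obj V₀.obj.left)), Covered C i.val (pc.obj R) → Function.Bijective (app π R) :=
    fun R hR => bijective_of_affine π R fun W g hW => hbijA W hW (hR.of_hom (pc.map g))
  let N' := Fib hrep hf N Q π
  let ρ : N' ⟶ N := fibFst hrep hf N Q π
  have hN' : BCAll N' := bcAll_fib hrep hf N Q π hqcm hqsm hN hQ
  have hold : ∀ l : Fin C.n, l.val < i.val → Function.Bijective (app ρ (C.W l)) := fun l hl =>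
    bijective_fibFst hrep hf N Q π (C.W l) (hbij _ (Covered.of_hom (fun t => ⟨l, hl, t, rfl⟩) (OpenExt.eps hrep hf (C.W l))))
  -- over the neighbourhood itself
  let T := EtOver.bcObj hrep V'
  let ad := AlgSpDec.EtPullRestrict.adj hrep hf
  let σ : V₁ ⟶ T := ad.unit.app V₁
  have hσ : pc.map σ ≫ OpenExt.eps hrep hf V' = 𝟙 V' := ad.left_triangle_components V₁
  have hpiece : ∀ x : ULift.{u + 1} ↥T.obj.left.left, ∃ (R : EtOver ((yon S).obj V₀.obj.left)) (g : R ⟶ T),
      x.down ∈ Set.range g.hom.left.left ∧ (Covered C i.val (pc.obj R) ∨ toTopV V₀ R ≫ σ = g) := by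
    rintro ⟨x⟩
    obtain ⟨O, hO⟩ := exists_open_covered C i.val (pc.obj T)
    by_cases hx : x ∈ O
    · refine ⟨AlgSpDec.etOpen T O, AlgSpDec.etOpenι T O, ⟨⟨x, hx⟩, rfl⟩, Or.inl fun t => ?_⟩
      obtain ⟨l, hl, hp⟩ := (hO ((AlgSpDec.etOpenι T O).hom.left.left t)).1 (Glob.etOpen_lift O t)
      exact ⟨l, hl, by rwa [← Glob.pt_map (pc.map (AlgSpDec.etOpenι T O))]⟩
    · rcases C.neat i (pc.obj T) (OpenExt.eps hrep hf V' ≫ topVHom V₀) (pc.map (toTopV V₀ T) ≫ topVHom V₀) x with
        ⟨l, hl, hp⟩ | ⟨T', h, hab, y, hy⟩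
      · exact absurd ((hO x).2 ⟨l, hl, hp⟩) hx
      let R : EtOver ((yon S).obj V₀.obj.left) := EtOver.mk ((yon S).map h.hom.left ≫ T.obj.hom)
        (AlgSpLib.repWith_comp ((repWith_yon_map_iff _ _).2 (EtOver.etale_left h)) T.property)
      refine ⟨R, EtOver.homMk h.hom.left rfl, ⟨y, hy⟩, Or.inr ?_⟩
      exact exists_factor_unit V₀ (E := R) T' h hab (EtOver.homMk h.hom.left rfl) (𝟙 _) (Category.id_comp _)
  choose R g hRx hRor using hpiece
  have hcovT : ∀ x : ↥T.obj.left.left, ∃ z, x ∈ Set.range (g z).hom.left.left := fun x => ⟨⟨x⟩, hRx ⟨x⟩⟩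
  have hval : ∀ n : sectModEt N V', res N (pc.map σ) (res N (OpenExt.eps hrep hf V') n) = n := fun n => by
    rw [← res_comp, hσ, res_id]
  have hcompat : ∀ x : sectModEt N' V', app π V₁ (res Q σ (fibSnd hrep hf N Q π V' x)) =
      (show sectModEt D V₁ from app ρ V' x) := fun x => by
    rw [app_res, fib_compat]
    exact hval _
  letI : Module (Fn V') (sectModEt Q V₁) := (inferInstance : Module (Fn V₁) (sectModEt Q V₁))
  let κ : sectModEt N' V' →ₗ[Fn V'] sectModEt Q V₁ :=
    { toFun := fun x => res Q σ (fibSnd hrep hf N Q π V' x)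
      map_add' := fun x y => (congrArg (res Q σ) ((app (fibSndHom hrep hf N Q π) V').map_add x y :)).trans
        (map_add (res Q σ) _ _)
      map_smul' := fun r x => by
        refine (congrArg (res Q σ) (((app (fibSndHom hrep hf N Q π) V').map_smul r x).trans
          (push_smul hrep Q V' r _) :)).trans ((res_smul Q σ _ _).trans ?_)
        refine congrArg (· • res Q σ (fibSnd hrep hf N Q π V' x)) ?_
        show fmap (pc.map σ) (fmap (OpenExt.eps hrep hf V') r) = r
        rw [← fmap_comp, hσ]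
        rfl }
  have hκ : Function.Bijective κ := by
    refine ⟨(injective_iff_map_eq_zero κ).2 fun x hx => ?_, fun q₀ => ?_⟩
    · have h1 : app ρ V' x = 0 := by
        have := (hcompat x).symm.trans ((congrArg (app π V₁) (show res Q σ _ = 0 from hx)).trans (map_zero _))
        exact this
      have h2 : app π T (fibSnd hrep hf N Q π V' x) = 0 := by
        rw [fib_compat, show app (fibFst hrep hf N Q π) V' x = 0 from h1]
        exact map_zero (res N (OpenExt.eps hrep hf V'))
      refine fib_ext hrep hf N Q π V' (h1.trans (map_zero _).symm) ?_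
      refine Eq.trans ?_ ((map_zero (app (fibSndHom hrep hf N Q π) V')).symm :)
      exact eq_zero_of_section π σ (toTopV V₀) (fun E => Covered C i.val (pc.obj E)) hbij R g hcovT hRor
        (fibSnd hrep hf N Q π V' x) h2 hx
    · let n : sectModEt N V' := app π V₁ q₀
      obtain ⟨q, hπq, hq⟩ := exists_of_section π σ (toTopV V₀) (fun a b => toTopV_unique V₀ a b)
        (fun E => Covered C i.val (pc.obj E)) (fun h a => Covered.of_hom h (pc.map a)) hbij R g hcovT hRor
        (show sectModEt D T from res N (OpenExt.eps hrep hf V') n) q₀ (hval n).symm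
      obtain ⟨x, hx1, hx2⟩ := exists_fib hrep hf N Q π V' n q hπq
      exact ⟨x, (congrArg (res Q σ) hx2).trans hq⟩
  refine ⟨N', ρ, hN', fun l hl => ?_, fun x hx => ?_, hold⟩
  · rcases Nat.lt_succ_iff_lt_or_eq.1 hl with h | h
    · haveI := hFP l h
      exact Module.FinitePresentation.of_equiv (LinearEquiv.ofBijective _ (hold l h)).symm
    · obtain rfl : l = i := Fin.ext h
      haveI : Module.FinitePresentation (Fn V') (sectModEt Q V₁) := hQFP
      haveI : Module.FinitePresentation (Fn V') (sectModEt N' V') :=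
        Module.FinitePresentation.of_equiv (LinearEquiv.ofBijective κ hκ).symm
      exact fp_of_res hN' (topVInv V₀)
  · refine mem_range_res_top V₀ ρ x ?_
    obtain ⟨q₀, hq₀⟩ := hQp _ (List.mem_map.2 ⟨x, hx, rfl⟩)
    obtain ⟨z, hz⟩ := hκ.2 q₀
    refine ⟨z, ?_⟩
    have := hcompat z
    rw [show res Q σ (fibSnd hrep hf N Q π V' z) = q₀ from hz, hq₀] at this
    exact this.symm

end Groth.Agent.EtQC.FPres
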