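import Groth.Agent.EtQC.FP.Glue
import Groth.Agent.AlgSpDec.ElemDistInduction

/-!
# Every quasi-coherent module is reached by finitely presented ones
-/

set_option autoImplicit false
set_option backward.isDefEq.respectTransparency false
set_option backward.isDefEq.respectTransparency.types false

universe u

set_option maxHeartbeats 800000

open CategoryTheory CategoryTheory.Limits AlgebraicGeometry Opposite AlgSp
open Groth.Agent.AlgSpPts

namespace Groth.Agent.EtQC.FPres

variable {S : Scheme.{u}} {X : Sp S}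

section Open

variable {Y : Sp S} {j : Y ⟶ X} (hrep : Representable j) (hf : IsEtaleMor j) {N M : ModEt X} (φ : N ⟶ M)

theorem psi_natural : φ ≫ OpenExt.psi hrep hf (𝟙 _) =
    OpenExt.psi hrep hf (𝟙 _) ≫ (pushModEt hrep).map ((OpenExt.restr hf).map φ) := by
  ext E t
  exact ((app_res φ (OpenExt.eps hrep hf E.unop) t).symm :)

theorem lift_fibMap : biprod.lift φ (OpenExt.psi hrep hf (𝟙 _)) ≫
    fibMap hrep hf M ((OpenExt.restr hf).obj N) ((OpenExt.restr hf).map φ) = 0 := by
  rw [fibMap, biprod.lift_desc, Preadditive.comp_neg, psi_natural, add_neg_cancel]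

/-- The comparison with the module extended from an open part. -/
noncomputable def toPlus : N ⟶ Fib hrep hf M ((OpenExt.restr hf).obj N) ((OpenExt.restr hf).map φ) :=
  kernel.lift _ _ (lift_fibMap hrep hf φ)

theorem fst_toPlus (W : EtOver X) (x : sectModEt N W) :
    app (fibFst hrep hf M _ _) W (app (toPlus hrep hf φ) W x) = app φ W x :=
  (app_comp' _ _ W x).symm.trans (app_eq_of_eq (by rw [toPlus, fibFst, kernel.lift_ι_assoc, biprod.lift_fst]) W x)

theorem snd_toPlus (W : EtOver X) (x : sectModEt N W) :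
    fibSnd hrep hf M _ _ W (app (toPlus hrep hf φ) W x) =
      (show sectModEt ((OpenExt.restr hf).obj N) (EtOver.bcObj hrep W) from res N (OpenExt.eps hrep hf W) x) :=
  (app_comp' _ _ W x).symm.trans
    (app_eq_of_eq (g := OpenExt.psi hrep hf (𝟙 _)) (by rw [toPlus, fibSndHom, kernel.lift_ι_assoc, biprod.lift_snd]) W x)

theorem bijective_toPlus (W : EtOver X)
    (hm : ∀ {Z : EtOver X} (a b : Z ⟶ (EtOver.postcomp j hf).obj (EtOver.bcObj hrep W)),
      a ≫ OpenExt.eps hrep hf W = b ≫ OpenExt.eps hrep hf W → a = b)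
    (hs : Function.Surjective (OpenExt.eps hrep hf W).hom.left.left) : Function.Bijective (app (toPlus hrep hf φ) W) := by
  refine ⟨fun a b hab => (bijective_res _ hm hs N).1 ?_, fun y => ?_⟩
  · exact (snd_toPlus hrep hf φ W a).symm.trans ((congrArg (fibSnd hrep hf M _ _ W) hab).trans (snd_toPlus hrep hf φ W b))
  · obtain ⟨x, hx⟩ := (bijective_res _ hm hs N).2
      (show sectModEt N ((EtOver.postcomp j hf).obj (EtOver.bcObj hrep W)) from fibSnd hrep hf M _ _ W y)
    have h2 : fibSnd hrep hf M _ _ W (app (toPlus hrep hf φ) W x) = fibSnd hrep hf M _ _ W y :=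
      (snd_toPlus hrep hf φ W x).trans hx
    refine ⟨x, fib_ext hrep hf M _ _ W ((bijective_res _ hm hs M).1 ?_) h2⟩
    exact ((fib_compat hrep hf M _ _ W _).symm.trans
      ((congrArg (app ((OpenExt.restr hf).map φ) (EtOver.bcObj hrep W)) h2).trans (fib_compat hrep hf M _ _ W y)) :)

end Open

/-- Prescribed sections on a chain come from finitely presented modules. -/
theorem hit [QuasiSeparatedSpace ↥S] (hA : IsAlgSpace X) (hqs : IsQuasiSeparatedSp X) (C : Chain X) :
    ∀ k, k ≤ C.n → Hit C k := by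
  classical
  intro k
  induction k with
  | zero =>
    exact fun _ M hM y => ⟨M, 𝟙 M, hM, fun l hl => absurd hl (Nat.not_lt_zero _),
      fun l hl => absurd hl (Nat.not_lt_zero _)⟩
  | succ k ih =>
    intro hk M hM y
    let i : Fin C.n := ⟨k, hk⟩
    -- the open subspace of the earlier members
    let O : Set (Points X) := ⋃ (l : Fin C.n) (_ : l.val < k), Set.range (Points.ofPt (C.W l).obj.hom)
    have hO : IsOpen O := isOpen_iUnion fun l => isOpen_iUnion fun _ => isOpen_range_ofPt (C.W l)
    have hOc : IsCompact O :=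
      isCompact_iUnion fun l => isCompact_iUnion fun _ => isCompact_range (Points.continuous_ofPt _)
    obtain ⟨U, j, hU, hj, hjr⟩ := exists_open_subspace hA hO
    have hUqc : IsQuasiCompactSp U :=
      AlgSpDec.Neat.compactSpace_of_range (X := ⟨X, hA⟩) (U := ⟨U, hU⟩) (j := ObjectProperty.homMk j) hj
        (hjr.symm ▸ hOc)
    have hUqs : IsQuasiSeparatedSp U := AlgSpDec.Neat.isQuasiSeparatedSp_of_openImm hj hqs
    let hrep := hj.1
    have hf : IsEtaleMor j := AlgSpLib.isEtaleMor_of_repWith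
      (AlgSpLib.repWith_mono (fun _ _ e (_ : IsOpenImmersion e) => (inferInstance : Etale e)) _ hj)
    have hqcm : IsQuasiCompactMor j := isQuasiCompactMor_of_qc_qs hU hA hUqc hqs j
    have hqsm : IsQuasiSeparatedMor j := AlgSpDec.isQuasiSeparatedMor_of_sp j hUqs hqs
    have hopen : ∀ W : EtOver X, IsOpenImmersion (OpenExt.eps hrep hf W).hom.left.left := fun W => by
      haveI : IsOpenImmersion (hrep.snd W.obj.hom).left := hj.property_snd W.obj.hom
      show IsOpenImmersion (𝟙 (hrep.pullback W.obj.hom).left ≫ (hrep.snd W.obj.hom).left)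
      infer_instance
    have hm : ∀ (W : EtOver X) {Z : EtOver X} (a b : Z ⟶ (EtOver.postcomp j hf).obj (EtOver.bcObj hrep W)),
        a ≫ OpenExt.eps hrep hf W = b ≫ OpenExt.eps hrep hf W → a = b := fun W Z a b h => by
      haveI := hopen W
      exact EtOver.hom_ext _ _ ((Over.forget S).map_injective
        ((cancel_mono (OpenExt.eps hrep hf W).hom.left.left).1 (congrArg (fun m => m.hom.left.left) h)))
    let T₀ := (EtOver.postcomp j hf).obj (EtOver.bcObj hrep (C.W i))
    haveI : CompactSpace ↥T₀.obj.left.left := (isQuasiCompactSp_yon_iff _).1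
      (hqcm (IsAlgSpace.yon_obj (C.W i).obj.left) (AlgSpLib.isQuasiCompactSp_yon (C.W i).obj.left) (C.W i).obj.hom
        (hrep.fst _) ((yon S).map (hrep.snd _)) (hrep.isPullback _))
    have hT₀ : Covered C k T₀ := fun t => by
      have : Glob.pt T₀ t ∈ O := hjr ▸ ⟨Points.map (EtOver.bcObj hrep (C.W i)).obj.hom (Points.ofScheme _ t), by
        rw [← Points.map_comp, ← Points.ofPt_eq_map_ofScheme]
        rfl⟩
      obtain ⟨l, hl, h⟩ := Set.mem_iUnion₂.1 this
      exact ⟨l, hl, h⟩
    let m : Fin (y i).length → sectModEt M T₀ := fun a => res M (OpenExt.eps hrep hf (C.W i)) ((y i).get a)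
    obtain ⟨N, φ, hN, hFP, hy, hlift⟩ := exists_lifts C (ih (Nat.le_of_succ_le hk)) hM y
      (OpenExt.eps hrep hf (C.W i)) (hm _) hT₀ m
    choose n hn using hlift
    let Np := Fib hrep hf M ((OpenExt.restr hf).obj N) ((OpenExt.restr hf).map φ)
    have hNp : BCAll Np := bcAll_fib hrep hf M _ _ hqcm hqsm hM (bcAll_restrict hf hN)
    choose p hp _ using fun a => exists_fib hrep hf M ((OpenExt.restr hf).obj N) ((OpenExt.restr hf).map φ) (C.W i)
      ((y i).get a) (show sectModEt ((OpenExt.restr hf).obj N) _ from n a) (hn a)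
    have hb : ∀ l : Fin C.n, l.val < k → Function.Bijective (app (toPlus hrep hf φ) (C.W l)) := fun l hl =>
      bijective_toPlus hrep hf φ (C.W l) (hm _) fun t => by
        obtain ⟨z, hz⟩ : Points.ofPt (C.W l).obj.hom t ∈ Set.range (Points.map j) :=
          hjr.symm ▸ Set.mem_iUnion₂.2 ⟨l, hl, t, rfl⟩
        obtain ⟨q, -, hq⟩ := AlgSpPts.exists_lift (EtOver.isPullback_bcObj hrep (C.W l)) hz
        exact ⟨q, hq⟩
    have hFPp : FPk C k Np := fun l hl => haveI := hFP l hl
      Module.FinitePresentation.of_equiv (LinearEquiv.ofBijective _ (hb l hl))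
    obtain ⟨N', ρ, hN', hFP', hpr, hold⟩ := exists_glue_step hA hqs C i hNp hFPp (List.ofFn p)
    refine ⟨N', ρ ≫ fibFst hrep hf M _ _, hN', hFP', fun l hl x hx => ?_⟩
    rcases Nat.lt_succ_iff_lt_or_eq.1 hl with h | h
    · obtain ⟨a, ha⟩ := hy l h x hx
      obtain ⟨b, hb'⟩ := (hold l h).2 (app (toPlus hrep hf φ) (C.W l) a)
      refine ⟨b, (app_comp' _ _ (C.W l) b).trans ?_⟩
      rw [hb']
      exact (fst_toPlus hrep hf φ (C.W l) a).trans ha
    · obtain rfl : l = i := Fin.ext h
      obtain ⟨a, rfl⟩ := List.mem_iff_get.1 hx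
      obtain ⟨b, hb'⟩ := hpr (p a) (List.mem_ofFn.2 ⟨a, rfl⟩)
      refine ⟨b, (app_comp' _ _ (C.W _) b).trans ?_⟩
      rw [hb']
      exact hp a

/-- A module finitely presented on a chain is finitely presented. -/
theorem isFinitePresentation_of_fpk [QuasiSeparatedSpace ↥S] (C : Chain X) {N : ModEt X} (hN : BCAll N)
    (h : FPk C C.n N) : N.IsFinitePresentation :=
  isFinitePresentation_of_bc fun E hE => by
    haveI := hE
    obtain ⟨n, P, a, l, c, hP, hl, hcov⟩ := exists_pieces_covered C E (k := C.n) fun t => by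
      obtain ⟨l, hl⟩ := C.surj (Glob.pt E t)
      exact ⟨l, l.isLt, hl⟩
    refine ⟨n, P, a, fun q => ⟨hP q, hN _ (hP q), ?_⟩, hcov⟩
    haveI := hP q
    haveI := h (l q) (hl q)
    exact fp_of_res hN (c q)

/-- Finitely many sections of a quasi-coherent module come from a module of finite presentation. -/
theorem exists_fp_hit [QuasiSeparatedSpace ↥S] (hA : IsAlgSpace X) (hqc : IsQuasiCompactSp X)
    (hqs : IsQuasiSeparatedSp X) {M : ModEt X} (hM : BCAll M) (W : EtOver X) [IsAffine W.obj.left.left] {r : ℕ}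
    (s : Fin r → sectModEt M W) :
    ∃ (N : ModEt X) (φ : N ⟶ M), BCAll N ∧ N.IsFinitePresentation ∧ ∀ a, s a ∈ Set.range (app φ W) := by
  classical
  obtain ⟨C⟩ := exists_chain hA hqc hqs
  have hc : Covered C C.n W := fun t => by
    obtain ⟨l, hl⟩ := C.surj (Glob.pt W t)
    exact ⟨l, l.isLt, hl⟩
  obtain ⟨N, φ, hN, hFP, -, hs⟩ := exists_lifts C (hit hA hqs C C.n le_rfl) hM (fun _ => []) (𝟙 W)
    (fun a b h => by rwa [Category.comp_id, Category.comp_id] at h) hc s
  exact ⟨N, φ, hN, isFinitePresentation_of_fpk C hN hFP, hs⟩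

end Groth.Agent.EtQC.FPres
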